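import Cfsg.Agent.E83.E

/-! The adjoint module of `E₈(3)` over the prime field: the facts that are used. -/

set_option autoImplicit false

namespace CF.Ev

open Module CF.E83

/-- The facts that are used about the adjoint module over `F₃`. -/
structure Dt {V X : Type*} [AddCommGroup V] [Module (ZMod 3) V] [Group X]
    (r : X →* End (ZMod 3) V) : Prop extends Dat r where
  t7 : ∀ x, x ^ 7 = 1 → x ≠ 1 → dm r x = 38 ∨ dm r x = 80
  t13 : ∀ x, x ^ 13 = 1 → x ≠ 1 → 20 ≤ dm r x ∧ dm r x ≤ 80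
  form : ∃ B : V →ₗ[ZMod 3] V →ₗ[ZMod 3] ZMod 3, (∀ u v, B u v = B v u) ∧
    (∀ u, (∀ v, B u v = 0) → u = 0) ∧ ∀ x u v, B (r x u) (r x v) = B u v
  f0 : ∀ v, (∀ g, r g v = v) → v = 0
  big : ∀ x, x ^ 7 = 1 → x ≠ 1 → ∀ v, r x v = v →
    14 < Nat.card {g // g * x = x * g ∧ r g v = v} ∧
      (dm r x = 38 → 42 < Nat.card {g // g * x = x * g ∧ r g v = v})

/-- The image of `j` fixes a nonzero vector. -/
def FixV {V X S : Type*} [AddCommGroup V] [Module (ZMod 3) V] [Group X] [Group S]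
    (r : X →* End (ZMod 3) V) (j : S →* X) : Prop := ∃ v, v ≠ 0 ∧ ∀ g, r (j g) v = v

/-- A self-centralizing element of order `7`. -/
def C7 (S : Type*) [Group S] : Prop :=
  ∃ x : S, orderOf x = 7 ∧ Nat.card (Subgroup.centralizer ({x} : Set S)) = 7

end CF.Ev
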