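import Cfsg.Agent.Ev.A
import Cfsg.Agent.Block.Brauer

/-! The Brauer character of a module over `F₃`. -/

set_option autoImplicit false

namespace CF.Ev

open Module CF.E83 Cfsg Finset MonoidAlgebra LinearMap CF.Block
open CF.BlockB (v k resC nrm ev)

namespace B

theorem rk_bc {F K V : Type*} [Field F] [Field K] [Algebra F K] [AddCommGroup V] [Module F V] (f : End F V) :
    finrank K (range (f.baseChange K)) = finrank F (range f) := by
  conv_lhs => rw [show f = (range f).subtype ∘ₗ f.rangeRestrict from rfl, baseChange_comp,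
    range_comp_of_range_eq_top (f := f.rangeRestrict.baseChange K) _ (range_eq_top.2
      (lTensor_surjective K f.surjective_rangeRestrict))]
  rw [finrank_range_of_inj (f := (range f).subtype.baseChange K) (Flat.lTensor_preserves_injective_linearMap _ (range f).injective_subtype),
    finrank_baseChange]

theorem idemInv {K R W : Type*} [Field K] [Ring R] [Algebra K R] [AddCommGroup W] [Module K W]
    [FiniteDimensional K W] (Φ : R →ₐ[K] End K W) :
    IdemInv (⊤ : Subalgebra K R) fun x => (finrank K (range (Φ x)) : ℂ) := by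
  have m : ∀ x y w, Φ x (Φ y w) = Φ (x * y) w := fun x y w => by rw [map_mul]; rfl
  have l : ∀ x y, x * y * x = x → finrank K (range (Φ (x * y))) ≤ finrank K (range (Φ (y * x))) := fun x y h =>
    le_trans (Submodule.finrank_mono (by
      rintro _ ⟨w, rfl⟩
      exact ⟨_, ⟨Φ y w, rfl⟩, by rw [m, m, ← mul_assoc, h]⟩)) (Submodule.finrank_map_le (Φ x) _)
  refine ⟨fun e _ f _ ee ff ef fe => ?_, fun x _ y _ h1 h2 => congrArg _ ((l x y h1).antisymm (l y x h2))⟩
  rw [← Nat.cast_add, ← Submodule.finrank_sup_add_finrank_inf_eq, show range (Φ e) ⊓ range (Φ f) = ⊥ from ?_,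
    finrank_bot, add_zero, show range (Φ e) ⊔ range (Φ f) = range (Φ (e + f)) from le_antisymm (sup_le ?_ ?_) ?_]
  · rintro _ ⟨w, rfl⟩; exact ⟨Φ e w, by rw [m, add_mul, ee, fe, add_zero]⟩
  · rintro _ ⟨w, rfl⟩; exact ⟨Φ f w, by rw [m, add_mul, ef, ff, zero_add]⟩
  · rintro _ ⟨w, rfl⟩; rw [map_add]; exact Submodule.add_mem_sup ⟨w, rfl⟩ ⟨w, rfl⟩
  · refine eq_bot_iff.2 ?_
    rintro _ ⟨⟨w, rfl⟩, u, hu⟩
    rw [Submodule.mem_bot, ← ee, ← m, ← hu, m, ef, map_zero, LinearMap.zero_apply]

theorem geo {K V : Type*} [Field K] [AddCommGroup V] [Module K V] {T : End K V} {n : ℕ} (hn : (n : K) ≠ 0)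
    (h : T ^ n = 1) : range (∑ i ∈ Finset.range n, T ^ i) = fs T := by
  refine le_antisymm ?_ fun w hw => ⟨(n : K)⁻¹ • w, ?_⟩
  · rintro _ ⟨w, rfl⟩
    exact congrArg (· w) ((mul_geom_sum T n).trans (by rw [h, sub_self]))
  · have : ∀ i : ℕ, (T ^ i) w = w := fun i => by rw [End.pow_apply, Function.iterate_fixed (mem_fs.1 hw)]
    simp [LinearMap.sum_apply, this, ← Nat.cast_smul_eq_nsmul K, smul_smul, hn]

end B

variable {S V : Type*} [Group S] [Fintype S] [AddCommGroup V] [Module (ZMod 3) V]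

/-- `β` is the Brauer character of `r`. -/
structure Br (r : S →* End (ZMod 3) V) (β : S → ℂ) : Prop where
  conj : ∀ g h, β (h * g * h⁻¹) = β g
  rk : ∀ (a : S → ℤ) (N : ℤ), ¬ (3 : ℤ) ∣ N → (∀ g, ∑ h, a h * a (h⁻¹ * g) = N * a g) →
    ∑ g, (a g : ℂ) * β g =
      N * finrank (ZMod 3) (LinearMap.range (∑ g, (a g : ZMod 3) • r g))

/-- the additive extension of a function to the integral group ring -/
noncomputable def lin (β : S → ℂ) : ℤ[S] →+ ℂ where
  toFun A := ∑ g, (A.coeff g : ℂ) * β g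
  map_zero' := by simp
  map_add' A B := by simp [add_mul, sum_add_distrib]

@[simp] theorem lin_single (β : S → ℂ) (g : S) (c : ℤ) : lin β (single g c) = c * β g := by
  classical
  simp [lin, Finsupp.single_apply]

/-- the action of the integral group ring -/
noncomputable def alg (r : S →* End (ZMod 3) V) : ℤ[S] →+* End (ZMod 3) V := (MonoidAlgebra.lift ℤ _ S r).toRingHom

omit [Fintype S] in
@[simp] theorem alg_single (r : S →* End (ZMod 3) V) (g : S) (c : ℤ) : alg r (single g c) = c • r g :=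
  MonoidAlgebra.lift_single r g c

theorem alg_apply (r : S →* End (ZMod 3) V) (A : ℤ[S]) : alg r A = ∑ g, (A.coeff g : ZMod 3) • r g := by
  simp only [Int.cast_smul_eq_zsmul]
  exact (MonoidAlgebra.lift_apply r A).trans (Finsupp.sum_fintype _ _ (by simp))

variable [FiniteDimensional (ZMod 3) V] {r : S →* End (ZMod 3) V} {β : S → ℂ}

theorem exists_br (r : S →* End (ZMod 3) V) : ∃ β, Br r β := by
  classical
  obtain ⟨M, hM⟩ := BlockB.exists_isPModular Nat.prime_three
  have := BlockB.charP_k hM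
  let _ := ZMod.algebra (k M) 3
  let Φ := MonoidAlgebra.lift (k M) _ S ((End.baseChangeHom (ZMod 3) (k M) V).toMonoidHom.comp r)
  have I := B.idemInv Φ
  obtain ⟨n, j, h1, h2, h3⟩ := exists_primReps (k := k M) (R := (k M)[S]) fun _ => True
  obtain ⟨φ, c1, c2⟩ := exists_dual_family (linearIndependent_pch (fun i => (h1 i).1) h2)
  let β := ∑ i, (finrank (k M) (range (Φ (j i))) : ℂ) • φ i
  have hβ : IsClassFunction S β := Char.classFun_sum _ fun i _ => Char.classFun_smul _ (Submodule.span_induction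
    (by rintro _ ⟨l, rfl⟩; exact pch_classFun _) Char.classFun_zero (fun _ _ _ _ => Char.classFun_add)
    (fun c _ _ => Char.classFun_smul c) (c1 i))
  have J := idemInv_tau_one (M := M) hβ
  have key : ∀ x, x * x = x → tau M β 1 x = finrank (k M) (range (Φ x)) := fun x hx =>
    idem_induction (P := fun x => tau M β 1 x = finrank (k M) (range (Φ x))) (J.zero.trans I.zero.symm)
      (fun e he => by
        obtain ⟨i, hi⟩ := h3 e he trivial
        rw [J.of_iEq hi he.idem (h1 i).1.idem, ← inner_pch hβ (h1 i).1.idem, Char.inner_sum_left]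
        simpa [Char.inner_smul_left, c2] using (I.of_iEq hi he.idem (h1 i).1.idem).symm)
      (fun e he f hf ee ff ef fe a b => by
        rw [J.add e he f hf ee ff ef fe, a, b]; exact (I.add e he f hf ee ff ef fe).symm) Algebra.mem_top hx
  refine ⟨β, hβ, fun a N hN ha => ?_⟩
  have N0 : (N : ℂ) ≠ 0 := Int.cast_ne_zero.2 fun e => hN (e ▸ dvd_zero 3)
  have v1 := (BlockB.v_intCast_eq_one_iff hM N).2 hN
  have v2 : v M (N : ℂ)⁻¹ ≤ 1 := by rw [map_inv₀, v1, inv_one]
  let e : ℂ[S] := ofFun fun g => (N : ℂ)⁻¹ * a g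
  have ee : e * e = e := MonoidAlgebra.ext (Finsupp.ext fun g => by
    have := congrArg (Int.cast (R := ℂ)) (ha g)
    push_cast at this
    simp only [coeff_mul_sum, e, coeff_ofFun, mul_mul_mul_comm _ (a _ : ℂ), ← mul_sum, this]
    field_simp)
  have e1 : nrm M e ≤ 1 := BlockB.nrm_le_iff.2 fun g => by
    rw [coeff_ofFun, map_mul]; exact mul_le_one' v2 (BlockB.v_intCast_le_one M _)
  have c0 : resC M (N : ℂ)⁻¹ ≠ 0 := left_ne_zero_of_mul_eq_one (b := resC M N) (by
    rw [← BlockB.resC_mul v2 v1.le, inv_mul_cancel₀ N0, BlockB.resC_one])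
  have := key _ (by rw [← red_mul e1 e1, ee])
  rw [tau_one_red hβ ee e1, show Φ (red M e) = resC M (N : ℂ)⁻¹ • (∑ g, (a g : ZMod 3) • r g).baseChange (k M) from ?_,
    range_smul _ _ c0, B.rk_bc] at this
  · rw [← this, BlockB.ev, LinearMap.comp_apply, Finsupp.linearCombination_apply, Finsupp.sum_fintype _ _ (by simp),
      mul_sum]
    exact sum_congr rfl fun g _ => by simp [e, ← mul_assoc, N0]
  · rw [MonoidAlgebra.lift_apply, Finsupp.sum_fintype _ _ (by simp), ← baseChangeHom_apply, map_sum, smul_sum]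
    refine sum_congr rfl fun g _ => ?_
    rw [coeff_red, coeff_ofFun, BlockB.resC_mul v2 (BlockB.v_intCast_le_one M _), BlockB.resC_intCast, mul_smul,
      Int.cast_smul_eq_zsmul (ZMod 3), map_zsmul]
    exact congrArg _ (Int.cast_smul_eq_zsmul (k M) (a g) ((r g).baseChange (k M)))

theorem Br.rk' (h : Br r β) (A : ℤ[S]) {N : ℤ} (hN : ¬ (3 : ℤ) ∣ N) (e : A * A = N • A) :
    lin β A = N * finrank (ZMod 3) (range (alg r A)) :=
  alg_apply r A ▸ h.rk A.coeff N hN fun g => by rw [← coeff_mul_sum, e]; rfl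

theorem Br.one (h : Br r β) : β 1 = finrank (ZMod 3) V := by
  have := h.rk' (single 1 1) (N := 1) (by decide) (by simp [single_mul_single])
  rw [alg_single, one_smul, map_one, show range (1 : End (ZMod 3) V) = ⊤ from range_id] at this
  simpa using this

theorem Br.hom (h : Br r β) {Q : Type*} [Group Q] [Fintype Q] (ι : Q →* S)
    (hQ : ¬ 3 ∣ Fintype.card Q) :
    ∑ g, β (ι g) = Fintype.card Q * finrank (ZMod 3) (⨅ g, fs (r (ι g)) : Submodule _ V) := by
  have := h.rk' (∑ g, single (ι g) 1) (N := Fintype.card Q) (by exact_mod_cast hQ) (by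
    rw [sum_mul_sum, natCast_zsmul, ← card_univ, ← sum_const]
    exact sum_congr rfl fun g _ => Fintype.sum_equiv (Equiv.mulLeft g) _ _ fun u => by simp [single_mul_single])
  rw [map_sum (alg r), sum_congr rfl fun g _ => (alg_single r (ι g) 1).trans (one_smul _ _)] at this
  simp only [map_sum, lin_single, Int.cast_one, one_mul, Int.cast_natCast] at this
  rw [this, show range (∑ g, r (ι g)) = ⨅ g, fs (r (ι g)) from
    le_antisymm ?_ fun w hw => ⟨(Fintype.card Q : ZMod 3)⁻¹ • w, ?_⟩]
  · rintro _ ⟨w, rfl⟩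
    refine (Submodule.mem_iInf _).2 fun g => mem_fs.2 ?_
    rw [LinearMap.sum_apply, map_sum]
    exact Fintype.sum_equiv (Equiv.mulLeft g) _ _ fun u => by simp
  · have := fun g => mem_fs.1 ((Submodule.mem_iInf _).1 hw g)
    simp [LinearMap.sum_apply, this, ← Nat.cast_smul_eq_nsmul (ZMod 3), smul_smul,
      inv_mul_cancel₀ (mt (ZMod.natCast_eq_zero_iff _ 3).1 hQ)]

theorem Br.sgn (h : Br r β) {x : S} {n : ℕ} (hn : ¬ 3 ∣ n) (hx : x ^ n = 1) {ε : ℤ} (hε : ε ^ n = 1) :
    ∑ i ∈ range n, ε ^ i * β (x ^ i) = n * finrank (ZMod 3) (fs (ε • r x)) := by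
  have e : (single x ε : ℤ[S]) ^ n = 1 := by rw [single_pow, hx, hε, MonoidAlgebra.one_def]
  have m : ∀ i : ℕ, (single x ε : ℤ[S]) ^ i * ∑ i ∈ range n, single x ε ^ i = ∑ i ∈ range n, single x ε ^ i :=
    fun i => by
      induction i with
      | zero => simp
      | succ i ih =>
        have := mul_geom_sum (single x ε : ℤ[S]) n
        rw [e, sub_self, sub_mul, one_mul, sub_eq_zero] at this
        rw [pow_succ, mul_assoc, this, ih]
  have := h.rk' (∑ i ∈ range n, single x ε ^ i) (N := n) (by exact_mod_cast hn) (by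
    rw [sum_mul, sum_congr rfl fun i _ => m i]; simp)
  rw [map_sum (alg r), sum_congr rfl fun i _ => map_pow _ _ i, alg_single,
    B.geo (mt (ZMod.natCast_eq_zero_iff _ 3).1 hn) (by rw [smul_pow, hε, ← map_pow, hx, map_one, one_smul])] at this
  simpa [map_sum, single_pow] using this

theorem Br.cyc (h : Br r β) {x : S} {n : ℕ} (hn : ¬ 3 ∣ n) (hx : x ^ n = 1) :
    ∑ i ∈ range n, β (x ^ i) = n * dm r x := by
  have := h.sgn hn hx (one_pow n)
  rw [one_smul] at this
  simpa [dm] using this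

theorem Br.four (h : Br r β) {x : S} (hx : x ^ 4 = 1) : β x + β x⁻¹ = 2 * bt r x := by
  have a := h.cyc (by decide) hx
  have b := h.sgn (ε := -1) (by decide) hx (by decide)
  rw [neg_one_zsmul] at b
  rw [bt_eq, inv_eq_of_mul_eq_one_left ((pow_succ x 3).symm.trans hx)]
  simp only [sum_range_succ, dm] at a b
  push_cast at a b ⊢
  rw [pow_one] at a
  rw [pow_one x] at b
  linear_combination (a - b) / 2

theorem Br.eight (h : Br r β) {x : S} (hx : x ^ 8 = 1) :
    β x + β (x ^ 3) + β (x ^ 5) + β (x ^ 7) = 4 * bt r x := by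
  have a := h.cyc (by decide) hx
  have b := h.sgn (ε := -1) (by decide) hx (by decide)
  rw [neg_one_zsmul] at b
  rw [bt_eq]
  simp only [sum_range_succ, dm] at a b
  push_cast at a b ⊢
  rw [pow_one] at a
  rw [pow_one x] at b
  linear_combination (a - b) / 2

end CF.Ev
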