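import Cfsg.Agent.Ev.A
import Cfsg.Agent.BN.Kap
import Cfsg.Agent.Block.Count

/-! The adjoint module of `E₈(3)` descends to the prime field. -/

set_option autoImplicit false

namespace CF.Ev

open Module CF.E83 CF.Chev CF.BN CF.ExA Cfsg Cfsg.Lie Finset CF.Geom.Sm Matrix Sum

namespace D

theorem len1 : ∀ r, 1 * cE8.len r = 1 := by decide +kernel

theorem chk7 : chk 7 fun x l => x.all (· % 7 == 0) || sl (ind 7 1 0) l ∈ [38, 80] := by
  decide +kernel

theorem chk13 : chk 13 fun x l => x.all (· % 13 == 0) ||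
    (20 ≤ sl (ind 13 1 0) l && sl (ind 13 1 0) l ≤ 80) := by decide +kernel

theorem conn : cE8.Conn := RootSys.conn_of_depth _ 0 ![0, 3, 1, 2, 3, 4, 5, 6] (by decide +kernel)

theorem ad_car : ∀ i k : Fin 8,
    ∑ j : Fin 8, (adE8.getD i []).getD j 0 * cE8.car j k = if i = k then 1 else 0 := by
  decide +kernel

theorem rk_ext {F K I : Type*} [Field F] [Field K] [Fintype I] [DecidableEq I] (ι : F →+* K)
    (A : Matrix I I F) : finrank F (fs (toLin' A)) = finrank K (fs (toLin' (A.map ι))) := by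
  have h1 := rk_fs (toLin' A)
  have h2 := rk_fs (toLin' (A.map ι))
  have h3 := CF.Block.rank_map_field ι (A - 1)
  rw [Matrix.map_sub _ (map_sub ι), Matrix.map_one _ (map_zero ι) (map_one ι), rank, rank,
    ← toLin'_apply', ← toLin'_apply', map_sub, map_sub, toLin'_one, toLin'_one] at h3
  rw [finrank_fintype_fun_eq_card] at h1 h2
  change finrank K (LinearMap.range (toLin' (A.map ι) - 1)) =
    finrank F (LinearMap.range (toLin' A - 1)) at h3
  omega

theorem mem_F3 {K : Type*} [Field K] [CharP K 3] {a : K} (h : a ^ 3 = a) :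
    ∃ b : ZMod 3, ZMod.castHom (dvd_refl 3) K b = a := by
  have : a * (a - 1) * (a + 1) = 0 := by linear_combination h
  rcases mul_eq_zero.1 this with h | h
  · rcases mul_eq_zero.1 h with h | h
    · exact ⟨0, by rw [map_zero, h]⟩
    · exact ⟨1, by rw [map_one, sub_eq_zero.1 h]⟩
  · exact ⟨-1, by rw [map_neg, map_one, eq_neg_of_add_eq_zero_left h]⟩

/-- The invariant form. -/
noncomputable def kp (K : Type*) [CommRing K] : Matrix (Fin 8 ⊕ Fin 240) (Fin 8 ⊕ Fin 240) K :=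
  (kap cE8 fun _ => 1).map (Int.castRingHom K)

theorem kp_nd {K : Type*} [Field K] {v : Fin 8 ⊕ Fin 240 → K}
    (h : ∀ a, LieBasis.bv K a ⬝ᵥ kp K *ᵥ v = 0) : v = 0 := by
  have h1 : ∀ j, ∑ k, (cE8.car j k : K) * v (inl k) = 0 := fun j => by
    simpa [kp, dotProduct, LieBasis.bv_apply, mulVec, kap] using h (inl j)
  funext a
  rcases a with i | r
  · have : ∑ j : Fin 8, (((adE8.getD i []).getD j 0 : ℤ) : K) *
        ∑ k, (cE8.car j k : K) * v (inl k) = v (inl i) := by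
      simp only [mul_sum, ← mul_assoc]
      rw [sum_comm]
      simp only [← sum_mul, ← Int.cast_mul, ← Int.cast_sum, ad_car]
      simp
    rw [← this]
    simp [h1]
  · have := h (inr (cE8.neg r))
    rw [kp, kap_ev] at this
    simpa using this

variable {X : Type*} [Group X] (L : LS cE8 1 3 3 1 X) {f : L.G →* GL (Fin 8 ⊕ Fin 240) L.K}
  (hf : L.ρ.IsAdHom f)
include hf

theorem ent (x : X) (a b : Fin 8 ⊕ Fin 240) :
    (f (jG L x)).val a b ^ 3 = (f (jG L x)).val a b := by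
  have h1 : f.comp L.T.σ = (GeneralLinearGroup.map L.φ).comp f :=
    StRep.hom_ext L.h.top fun r t => Units.ext (by
      rw [MonoidHom.comp_apply, MonoidHom.comp_apply, L.σ_x, hf, hf, ← L.φ_eq, LieBasis.val_xG,
        ← LieBasis.X_map']
      rfl)
  have h2 : L.T.σ (jG L x) = jG L x := ((MulEquiv.ofBijective L.θ (θ_bij L)).symm x).2
  have h3 := congrArg (fun F : L.G →* _ => (F (jG L x)).val a b) h1
  simp only [MonoidHom.comp_apply, h2] at h3
  rw [← L.φ_eq]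
  exact h3.symm

theorem exists_N : ∃ N : X →* Matrix (Fin 8 ⊕ Fin 240) (Fin 8 ⊕ Fin 240) (ZMod 3),
    ∀ x, (N x).map (ZMod.castHom (dvd_refl 3) L.K) = (f (jG L x)).val := by
  choose n hn using fun x a b => mem_F3 (ent L hf x a b)
  have h1 : ∀ x, (of (n x)).map (ZMod.castHom (dvd_refl 3) L.K) = (f (jG L x)).val := fun x =>
    Matrix.ext (hn x)
  have h2 := Matrix.map_injective (m := Fin 8 ⊕ Fin 240) (n := Fin 8 ⊕ Fin 240)
    (ZMod.castHom (dvd_refl 3) L.K).injective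
  refine ⟨⟨⟨fun x => of (n x), h2 ?_⟩, fun x y => h2 ?_⟩, h1⟩
  · show (of (n 1)).map _ = (1 : Matrix _ _ _).map _
    rw [h1, Matrix.map_one _ (map_zero _) (map_one _), map_one, map_one, Units.val_one]
  · show (of (n (x * y))).map _ = (of (n x) * of (n y)).map _
    rw [Matrix.map_mul, h1, h1, h1, map_mul, map_mul, Units.val_mul]

theorem t7 {x : X} (hx : x ^ 7 = 1) (h1 : x ≠ 1) :
    dm ((RR f).comp (jG L)) x = 38 ∨ dm ((RR f).comp (jG L)) x = 80 := by
  obtain ⟨μ, hμ⟩ := exists_μ L (m := 7) (by decide)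
  obtain ⟨g, y, h2, w, hw, h3⟩ := exists_diag (by decide) hμ hx
  obtain ⟨v, hv, z, h4, h5⟩ := alc chk7 hw h3
  have := (Bool.or_eq_true_iff.1 h5).resolve_left fun h => h1 (eq_one_of hμ h2 hv h4 h)
  rw [← ES_eq (by decide), ← ES_congr h4, ES_Mw hv, ← dm_eq hf hμ h2] at this
  simp at this
  omega

theorem t13 {x : X} (hx : x ^ 13 = 1) (h1 : x ≠ 1) :
    20 ≤ dm ((RR f).comp (jG L)) x ∧ dm ((RR f).comp (jG L)) x ≤ 80 := by
  obtain ⟨μ, hμ⟩ := exists_μ L (m := 13) (by decide)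
  obtain ⟨g, y, h2, w, hw, h3⟩ := exists_diag (by decide) hμ hx
  obtain ⟨v, hv, z, h4, h5⟩ := alc chk13 hw h3
  have := (Bool.or_eq_true_iff.1 h5).resolve_left fun h => h1 (eq_one_of hμ h2 hv h4 h)
  rw [← ES_eq (by decide), ← ES_congr h4, ES_Mw hv, ← dm_eq hf hμ h2] at this
  simp at this
  omega

end D

open D in
theorem dt_of {X : Type*} [Group X] (L : LS cE8 1 3 3 1 X)
    {f : L.G →* GL (Fin 8 ⊕ Fin 240) L.K} (hf : L.ρ.IsAdHom f)
    {N : ℕ} (hX : Nat.card X = 31 * N) (hN : ¬ 31 ∣ N)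
    (hb : ∀ {x : X}, x ^ 7 = 1 → x ≠ 1 → ∀ {u : Fin 8 ⊕ Fin 240 → L.K}, (∀ a, u a ^ 3 = u a) →
      RR f (jG L x) u = u → 14 < Nat.card {g // g * x = x * g ∧ RR f (jG L g) u = u} ∧
        (dm ((RR f).comp (jG L)) x = 38 →
          42 < Nat.card {g // g * x = x * g ∧ RR f (jG L g) u = u})) :
    ∃ r : X →* End (ZMod 3) (Fin 8 ⊕ Fin 240 → ZMod 3), Dt r := by
  obtain ⟨M, hM⟩ := exists_N L hf
  obtain ⟨ι, hι⟩ : ∃ ι, ι = ZMod.castHom (dvd_refl 3) L.K := ⟨_, rfl⟩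
  rw [← hι] at hM
  let r : X →* End (ZMod 3) (Fin 8 ⊕ Fin 240 → ZMod 3) :=
    (toLinAlgEquiv' (R := ZMod 3)).toMulEquiv.toMonoidHom.comp M
  have r1 : ∀ x, r x = toLin' (M x) := fun _ => rfl
  have r2 : ∀ x, RR f (jG L x) = toLin' ((M x).map ι) := fun x => by rw [hM]; rfl
  have d : ∀ x, dm r x = dm ((RR f).comp (jG L)) x := fun x => by
    rw [dm, dm, r1, MonoidHom.comp_apply, r2, rk_ext ι]
  have b : ∀ x, bt r x = bt ((RR f).comp (jG L)) x := fun x => by
    rw [bt_eq, bt_eq, r1, MonoidHom.comp_apply, r2, rk_ext ι, ← map_neg toLin', ← map_neg toLin',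
      rk_ext ι, Matrix.map_neg _ (map_neg ι)]
  have h := dat hf hX hN
  have v1 : ∀ x v, RR f (jG L x) (ι ∘ v) = ι ∘ r x v := fun x v => by
    funext a
    rw [r1, r2, toLin'_apply, toLin'_apply, Function.comp_apply, RingHom.map_mulVec]
  have v2 : ∀ x v, RR f (jG L x) (ι ∘ v) = ι ∘ v ↔ r x v = v := fun x v => by
    rw [v1]
    exact ι.injective.comp_left.eq_iff
  have k1 : ∀ u v, ι (u ⬝ᵥ kp (ZMod 3) *ᵥ v) = (ι ∘ u) ⬝ᵥ kp L.K *ᵥ (ι ∘ v) := fun u v => by
    rw [RingHom.map_dotProduct]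
    congr 1
    funext a
    rw [Function.comp_apply, RingHom.map_mulVec, kp, kp, Matrix.map_map, ← RingHom.coe_comp,
      RingHom.eq_intCast' (ι.comp _)]
  have k2 : ∀ x u v, r x u ⬝ᵥ kp (ZMod 3) *ᵥ r x v = u ⬝ᵥ kp (ZMod 3) *ᵥ v := fun x u v =>
    ι.injective (by
      rw [k1, k1, ← v1, ← v1]
      exact kap_inv conn len1 hf (L.h.top ▸ Subgroup.mem_top _) _ _)
  have k3 : ∀ u v, u ⬝ᵥ kp (ZMod 3) *ᵥ v = v ⬝ᵥ kp (ZMod 3) *ᵥ u := fun u v => by
    rw [dotProduct_mulVec, ← mulVec_transpose, dotProduct_comm, kp, ← transpose_map,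
      kap_symm len1]
  refine ⟨r, ⟨rfl, by simp, fun x hx => ?_, fun x hx => h.inj x (b x ▸ hx), fun x => d x ▸ h.t5 x,
    fun x => d x ▸ h.t11 x, fun x => d x ▸ h.t31 x, fun s u => d u ▸ h.t33 s u, h.t41⟩,
    fun x => d x ▸ t7 L hf, fun x => d x ▸ t13 L hf, ⟨toLinearMap₂' (ZMod 3) (kp (ZMod 3)), ?_, ?_, ?_⟩,
    fun v hv => ?_, fun x hx h1 v hv => ?_⟩
  · rw [b, b, b]; exact h.t8 x hx
  · simpa only [toLinearMap₂'_apply'] using k3
  · simp only [toLinearMap₂'_apply']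
    exact fun u hu => kp_nd fun a => (k3 _ _).trans (hu _)
  · simpa only [toLinearMap₂'_apply'] using k2
  · have x1 : ∀ s u, (cE8.X s 1 *ᵥ u) ⬝ᵥ kp (ZMod 3) *ᵥ v = u ⬝ᵥ kp (ZMod 3) *ᵥ v := fun s u => by
      have e : M (L.θ ⟨L.ρ.x s 1, (L.σ_x s 1).trans (by rw [one_pow]; rfl)⟩) = cE8.X s 1 :=
        Matrix.map_injective ι.injective (by
          show (M _).map ι = (cE8.X s 1).map ι
          rw [hM, jG_θ, hf, LieBasis.val_xG, LieBasis.X_map', map_one])
      rw [← e, ← toLin'_apply, ← r1, ← k2 _ u v, hv]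
    have x2 : ∀ s, LieBasis.bv (ZMod 3) (inr s) ⬝ᵥ kp (ZMod 3) *ᵥ v = 0 := fun s => by
      have := x1 s (cE8.hv _ s)
      rw [LieBasis.X_hv, sub_dotProduct, sub_eq_self, smul_dotProduct, RootSys.A_self] at this
      exact (smul_eq_zero.1 this).resolve_left (by decide)
    refine kp_nd fun a => ?_
    rcases a with i | s
    · have := x1 (cE8.simple i) (LieBasis.bv _ (inr (cE8.neg (cE8.simple i))))
      rw [LieBasis.X_neg_root, sub_dotProduct, add_dotProduct, smul_dotProduct, smul_dotProduct,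
        x2, x2, LieBasis.hv_simple] at this
      simpa using this
    · exact x2 s
  · have := hb hx h1 (u := ι ∘ v) (fun a => by
      rw [Function.comp_apply, ← map_pow, ZMod.pow_card]) ((v2 x v).2 hv)
    simpa only [v2, d] using this

end CF.Ev
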