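import Cfsg.Agent.Ev.U

/-! Counting rational points in fibres of a quadratic form. -/

set_option autoImplicit false

namespace CF.Ev

open CF.BN Finset Module

variable {K V : Type*} [Field K] [AddCommGroup V] [Module K V] [FiniteDimensional K V] {p : ℕ}

/-- A set that meets an affine subspace of dimension `d` in at most `p ^ d` points. -/
def Rat (K : Type*) {V : Type*} [Field K] [AddCommGroup V] [Module K V] (p : ℕ) (E : Set V) :
    Prop := ∀ (O : Finset V) (U : Submodule K V), (∀ w ∈ O, w ∈ E) →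
  (∀ w ∈ O, ∀ w' ∈ O, w - w' ∈ U) → #O ≤ p ^ finrank K U

theorem rat_of [Fact p.Prime] [CharP K p] {I : Type*} [Finite I] (A : V →ₗ[K] (I → K))
    (hA : Function.Injective A) : Rat K p {w | ∀ a, A w a ^ p = A w a} := fun O U h1 h2 => by
  rcases O.eq_empty_or_nonempty with rfl | ⟨w0, h0⟩
  · simp
  let _ := ZMod.algebra K p
  let U0 := ((U.map A).restrictScalars (ZMod p)).comap (Pi.algebraMap I (ZMod p) K)
  have h3 : finrank (ZMod p) U0 ≤ finrank K U := by
    let b := finBasis (ZMod p) U0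
    have h4 := (linearIndependent_algebraMap_comp_iff (S := K)).2
      (b.linearIndependent.map' U0.subtype U0.ker_subtype)
    have h5 := (LinearIndependent.of_comp (v := fun i => (⟨_, (b i).2⟩ : U.map A))
      (U.map A).subtype h4).fintype_card_le_finrank
    rw [Fintype.card_fin] at h5
    exact h5.trans (U.finrank_map_le A)
  have h4 : ∀ w : O, ∃ u : U0, algebraMap (ZMod p) K ∘ u.1 = A (w - w0) := fun w => by
    have h5 : ∀ a, ∃ t, algebraMap (ZMod p) K t = A (w - w0) a := fun a =>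
      (mem_range_iff_pow _).1 (by
        rw [ZMod.card, map_sub, Pi.sub_apply, sub_pow_char, h1 _ w.2, h1 _ h0])
    choose u hu using h5
    exact ⟨⟨u, _, h2 _ w.2 _ h0, (funext hu).symm⟩, funext hu⟩
  choose u hu using h4
  have h5 := Nat.card_le_card_of_injective u fun w w' e => Subtype.ext
    (sub_left_injective (hA (by rw [← hu, ← hu, e])))
  rw [natCard_eq_pow_finrank (K := ZMod p) (V := U0), Nat.card_zmod, Nat.card_eq_fintype_card,
    Fintype.card_coe] at h5
  exact h5.trans (Nat.pow_le_pow_right (Fact.out : p.Prime).pos h3)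

theorem fib (hp : 0 < p) {E : Set V} (hE : Rat K p E) (b : V →ₗ[K] V →ₗ[K] K)
    (hb : ∀ x y, b x y = b y x) (h2 : (2 : K) ≠ 0) (π : V → V) {P Z Z' : Submodule K V}
    (hP : ∀ x ∈ P, ∀ y ∈ P, b x y = 0) (hπ : ∀ w, π w ∈ P) (hπ' : ∀ w ∈ E, w - π w ∈ E)
    {O : Finset V} (h1 : ∀ w ∈ O, w ∈ E) (h3 : ∀ w ∈ O, ∀ w' ∈ O, b w w = b w' w')
    (h4 : ∀ w ∈ O, ∀ w' ∈ O, w - π w - (w' - π w') ∈ Z)
    (h5 : ∀ w ∈ O, ∀ w' ∈ O, (∀ x ∈ P, b (w - w') x = 0) → w - w' ∈ Z') {N z : ℕ}
    (hN : finrank K P ≤ N) (hz : finrank K Z ≤ z) (hz' : finrank K Z' ≤ z) :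
    #O ≤ (p ^ N / p + 1) * p ^ z := by
  classical
  rw [← card_filter_add_card_filter_not (s := O) fun w => ∃ x ∈ P, b w x ≠ 0, add_mul, one_mul]
  refine add_le_add ((card_le_mul_card_image (f := fun w => w - π w) _ (p ^ N / p) ?_).trans
    (Nat.mul_le_mul_left _ ((hE _ Z ?_ ?_).trans (Nat.pow_le_pow_right hp hz))))
    ((hE _ Z' (fun w hw => h1 w (mem_filter.1 hw).1) fun w hw w' hw' => ?_).trans
      (Nat.pow_le_pow_right hp hz'))
  · simp only [forall_mem_image, mem_filter]
    rintro a ⟨ha, x, hx, h6⟩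
    have h7 : ∀ w, b w w = b (w - π w) (w - π w) + 2 * b (w - π w) (π w) := fun w => by
      simp only [map_sub, LinearMap.sub_apply, hP _ (hπ w) _ (hπ w), hb (π w) w]; ring
    have h8 : finrank K (P ⊓ LinearMap.ker (b (a - π a)) : Submodule K V) < finrank K P :=
      Submodule.finrank_lt_finrank_of_lt (inf_le_left.lt_of_ne fun h => h6 (by
        simpa [hP _ (hπ a) x hx] using (h.ge hx).2))
    refine (hE _ (P ⊓ LinearMap.ker (b (a - π a))) (fun w hw => ?_) fun w hw w' hw' => ?_).trans ?_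
    · exact h1 w (mem_filter.1 (mem_filter.1 hw).1).1
    · simp only [mem_filter] at hw hw'
      have h9 := h3 w hw.1.1 w' hw'.1.1
      rw [h7 w, h7 w', hw.2, hw'.2, add_right_inj, mul_right_inj' h2] at h9
      rw [show w - w' = π w - π w' by rw [sub_eq_sub_iff_sub_eq_sub, hw.2, hw'.2]]
      exact ⟨sub_mem (hπ w) (hπ w'), by rw [SetLike.mem_coe, LinearMap.mem_ker, map_sub, h9, sub_self]⟩
    · rw [Nat.le_div_iff_mul_le hp, ← pow_succ]
      exact Nat.pow_le_pow_right hp (by omega)
  · simp only [forall_mem_image, mem_filter]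
    exact fun w hw => hπ' w (h1 w hw.1)
  · simp only [forall_mem_image, mem_filter]
    exact fun w hw w' hw' => h4 w hw.1 w' hw'.1
  · simp only [mem_filter, not_exists, not_and, not_not] at hw hw'
    exact h5 w hw.1 w' hw'.1 fun x hx => by simp [hw.2 x hx, hw'.2 x hx]

omit [FiniteDimensional K V] in
theorem pigeon {Γ : Type*} [Group Γ] [Fintype Γ] [DecidableEq V] (r : Γ →* End K V) (v w : V) :
    Nat.card Γ ≤ Nat.card {g // r g (v + w) = v + w} *
      (#(univ.image fun g => r g v) * #(univ.image fun g => r g w)) := by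
  classical
  rw [Nat.card_eq_fintype_card, ← card_univ, ← card_product]
  refine (card_le_mul_card_image (f := fun g => (r g v, r g w)) _ _ ?_).trans
    (Nat.mul_le_mul_left _ (card_le_card fun x => ?_))
  · simp only [forall_mem_image]
    intro a _
    rw [← Fintype.card_coe, ← Nat.card_eq_fintype_card]
    refine Nat.card_le_card_of_injective (fun g => ⟨a⁻¹ * g, ?_⟩) fun g g' e => by simpa using e
    have := Prod.ext_iff.1 (mem_filter.1 g.2).2
    dsimp only at this
    rw [map_mul, End.mul_apply, map_add, this.1, this.2, ← map_add,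
      ← End.mul_apply, ← map_mul]
    simp
  · simp only [mem_image, mem_product]
    rintro ⟨g, h, rfl⟩
    exact ⟨⟨g, h, rfl⟩, g, h, rfl⟩

end CF.Ev
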