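import Cfsg.Agent.Ev.G1
import Cfsg.Agent.BN.Kap

/-! Orbits of a subsystem subgroup on its Lie algebra. -/

set_option autoImplicit false

namespace CF.Ev

open CF.Chev CF.BN Finset Matrix Sum Module

variable {B ι : Type} [Fintype B] [DecidableEq B] [Fintype ι] [DecidableEq ι]
  {C : ChevBasis B ι} {K : Type*} [Field K] {G : Type*} [Group G] {ρ : StRep C K G}
  {f : G →* GL (B ⊕ ι) K} {J : Set B} {R S : Set ι} {v x : B ⊕ ι → K} {g n : G}
  {w : Equiv.Perm ι} {p : ℕ}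

variable (K J S) in
/-- Vectors with bounded support. -/
def Wc : Submodule K (B ⊕ ι → K) where
  carrier := {x | (∀ i ∉ J, x (inl i) = 0) ∧ ∀ r ∉ S, x (inr r) = 0}
  add_mem' := fun a b => ⟨fun i h => by simp [a.1 i h, b.1 i h], fun i h => by simp [a.2 i h, b.2 i h]⟩
  zero_mem' := ⟨fun _ _ => rfl, fun _ _ => rfl⟩
  smul_mem' := fun _ _ a => ⟨fun i h => by simp [a.1 i h], fun i h => by simp [a.2 i h]⟩

omit [DecidableEq B] [DecidableEq ι] in
theorem rk_Wc : finrank K (Wc K J S) ≤ J.ncard + S.ncard := by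
  have := LinearMap.finrank_le_finrank_of_injective (f := LinearMap.funLeft K K
    (Sum.map (↑) (↑) : J ⊕ S → B ⊕ ι) ∘ₗ (Wc K J S).subtype) ((injective_iff_map_eq_zero _).2
      fun x h => Subtype.ext (funext fun a => by
        rcases a with a | a
        · by_cases e : a ∈ J
          exacts [congrFun h (inl ⟨a, e⟩), x.2.1 a e]
        · by_cases e : a ∈ S
          exacts [congrFun h (inr ⟨a, e⟩), x.2.2 a e]))
  classical
  rwa [finrank_fintype_fun_eq_card, ← Nat.card_eq_fintype_card, Nat.card_sum] at this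

variable (C K J R) in
/-- The domain. -/
def Dm : Set (B ⊕ ι → K) := {v | (∀ r, ¬ C.InSub J r → v (inr r) = 0) ∧
  ∀ r ∈ R, ¬ C.InSub J r → ∑ i, (C.sp i (C.vec r) : K) * v (inl i) = 0}

variable (C J R) in
/-- The other roots are orthogonal to `J`. -/
def Ort : Prop := ∀ r ∈ R, ¬ C.InSub J r → ∀ j ∈ J, C.sp j (C.vec r) = 0

theorem Dm_of (hJ : Ort C J R) (hv : v ∈ Dm C K J R) (h : x - v ∈ Wc K J {r | C.InSub J r}) :
    x ∈ Dm C K J R := by
  refine ⟨fun r hr => by simpa [hv.1 r hr] using h.2 r hr, fun r hr h' => ?_⟩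
  refine (sum_congr rfl fun i _ => ?_).trans (hv.2 r hr h')
  by_cases e : i ∈ J
  · simp [hJ r hr h' i e]
  · rw [sub_eq_zero.1 (h.1 i e)]

theorem cov_eq_zero {r : ι} (h : C.InSub J r) {i : B} (hi : i ∉ J) : C.cov r i = 0 := by
  simpa [h i hi, (C.len_pos r).ne'] using C.cov_len r i

theorem E_mem (hl : C.SameLen) (hJ : Ort C J R) {k : ℕ} (hk : 1 ≤ k) {r : ι} (hr : r ∈ R)
    (hv : v ∈ Dm C K J R) : C.E K k r *ᵥ v ∈ Wc K J {r | C.InSub J r} := by
  refine ⟨fun i hi => ?_, fun u hu => ?_⟩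
  · simp only [mulVec, dotProduct, Fintype.sum_sum_type, LieBasis.E, of_apply, RootSys.EZ]
    rw [sum_eq_zero fun _ _ => by simp, zero_add]
    refine sum_eq_zero fun s _ => ?_
    split_ifs with h
    · by_cases e : C.InSub J r
      · simp [cov_eq_zero e hi]
      · simp [h.2, hv.1 _ (mt C.inSub_neg.1 e)]
    · simp
  · simp only [mulVec, dotProduct, Fintype.sum_sum_type, LieBasis.E, of_apply, RootSys.EZ]
    rw [sum_eq_zero (s := univ (α := ι)) fun s _ => ?_, add_zero]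
    · by_cases h : k = 1 ∧ u = r
      · simpa [h] using hv.2 r hr (h.2 ▸ hu)
      · simp [h]
    split_ifs with h
    swap
    · simp
    refine mul_eq_zero_of_right _ (hv.1 s fun hs => hu ?_)
    by_cases e : C.InSub J r
    · exact fun i hi => by simp [h, hs i hi, e i hi]
    have h1 : C.A r s = 0 := (C.A_eq_zero_iff r s).2 (sum_eq_zero fun i _ => by
      by_cases hi : i ∈ J
      · simp [hJ r hr e i hi]
      · simp [cov_eq_zero hs hi])
    have h2 : C.A r u = 2 * k := by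
      rw [C.A_def, h, map_add, map_smul, ← C.A_def, h1, C.cor_vec_self]; simp [mul_comm]
    by_cases h3 : u = r
    · rw [h3, C.A_self] at h2
      obtain rfl : k = 1 := by omega
      exact absurd (by simpa [h3] using h) (C.vec_ne_zero s)
    by_cases h4 : u = C.neg r
    · rw [h4, C.A_neg_right, C.A_self] at h2; omega
    · have := RootSys.abs_A_le_of_len (hl r u) h3 h4; omega

theorem orb_mem (hf : ρ.IsAdHom f) (hl : C.SameLen) (hJ : Ort C J R) (hg : g ∈ ρ.U R ⊔ ρ.H)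
    (hv : v ∈ Dm C K J R) : (f g).val *ᵥ v - v ∈ Wc K J {r | C.InSub J r} := by
  have key : ∀ a b : G, (∀ v ∈ Dm C K J R, (f a).val *ᵥ v - v ∈ Wc K J {r | C.InSub J r}) →
      (∀ v ∈ Dm C K J R, (f b).val *ᵥ v - v ∈ Wc K J {r | C.InSub J r}) →
      ∀ v ∈ Dm C K J R, (f (a * b)).val *ᵥ v - v ∈ Wc K J {r | C.InSub J r} := fun a b ha hb v hv => by
    simpa using add_mem (ha _ (Dm_of hJ hv (hb v hv))) (hb v hv)
  obtain ⟨u, hu, t, ht, rfl⟩ := StRep.mem_U_sup_H.1 hg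
  refine key _ _ (ρ.U_induction (p := fun a => ∀ v ∈ Dm C K J R,
    (f a).val *ᵥ v - v ∈ Wc K J {r | C.InSub J r}) (by simp) (fun g r t _ hr h => key _ _ h
      fun v hv => ?_) hu) (fun v hv => ?_) v hv
  · rw [hf r t, C.val_xG, C.X_mulVec, add_assoc, add_assoc, add_sub_cancel_left]
    exact add_mem (Submodule.smul_mem _ _ (E_mem hl hJ le_rfl hr hv)) (add_mem
      (Submodule.smul_mem _ _ (E_mem hl hJ (by omega) hr hv))
      (Submodule.smul_mem _ _ (E_mem hl hJ (by omega) hr hv)))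
  · obtain ⟨χ, -, -, h⟩ := StRep.exists_actsT_of_mem_H ht
    rw [h f hf, C.val_tG]
    exact ⟨fun i _ => by simp [LieBasis.TM, mulVec_diagonal], fun r hr => by
      simp [LieBasis.TM, mulVec_diagonal, hv.1 r hr]⟩

theorem nw_hv (hf : ρ.IsAdHom f) (hn : ρ.NW n w) (s : ι) :
    (f n).val *ᵥ C.hv K s = C.hv K (w s) := by
  obtain ⟨z, hz, l, rfl, rfl⟩ := hn
  obtain ⟨χ, -, -, h⟩ := StRep.exists_actsT_of_mem_H hz
  rw [map_mul, Units.val_mul, ← mulVec_mulVec, h f hf, C.val_tG, ← C.TM_hv χ (C.wp l s)]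
  congr 1
  induction l with
  | nil => simp
  | cons i l ih =>
    rw [ρ.nw_cons, map_mul, Units.val_mul, ← mulVec_mulVec, ih, ← ρ.map_n f,
      hf.map_eq, PreSt.val_adPre_n, C.nM_hv, C.refl_simple, C.wp_cons]
    rfl

theorem nw_coord (hf : ρ.IsAdHom f) (hn : ρ.NW n w) : ∃ c : ι → K, ∀ v : B ⊕ ι → K,
    (∀ i, ((f n).val *ᵥ v) (inl i) = ∑ j, (Mw C w i j : K) * v (inl j)) ∧
      ∀ s, ((f n).val *ᵥ v) (inr (w s)) = c s * v (inr s) := by
  choose c hc using hn.ad_bv hf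
  have h1 : ∀ a s, (f n).val a (inr s) = if a = inr (w s) then c s else 0 := fun a s => by
    rw [← LieBasis.mulVec_bv_apply K (f n).val, hc]; simp [LieBasis.bv_apply]
  have h2 : ∀ i j, (f n).val (inl i) (inl j) = Mw C w i j := fun i j => by
    rw [← LieBasis.mulVec_bv_apply K (f n).val, ← C.hv_simple, nw_hv hf hn]; rfl
  exact ⟨c, fun v => ⟨fun i => by simp [mulVec, dotProduct, h1, h2], fun s => by
    simp [mulVec, dotProduct, h1, hn.ad_inl hf]⟩⟩

/-- Rational vectors for a twisted Frobenius map. -/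
def Ef {I : Type*} [Fintype I] (A : Matrix I I K) (p : ℕ) : Set (I → K) :=
  {v | ∀ a, (A *ᵥ v) a = v a ^ p}

/-- A projection. -/
noncomputable def Pj (P : Matrix B B ℤ) (S : Set ι) (v : B ⊕ ι → K) : B ⊕ ι → K :=
  Sum.elim (fun i => ∑ j, (P i j : K) * v (inl j)) (S.indicator fun r => v (inr r))

variable [Fact p.Prime] [CharP K p]

theorem Ef.sub {I : Type*} [Fintype I] {A : Matrix I I K} {v x : I → K} (hv : v ∈ Ef A p)
    (hx : x ∈ Ef A p) : v - x ∈ Ef A p := fun a => by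
  rw [mulVec_sub, Pi.sub_apply, Pi.sub_apply, hv, hx, sub_pow_char]

theorem Pj_mem (hf : ρ.IsAdHom f) (hn : ρ.NW n w) {P : Matrix B B ℤ}
    (hP : ∀ i j, (p : ℤ) ∣ (Mw C w * P) i j - (P * Mw C w) i j) (hS : ∀ r, w r ∈ S ↔ r ∈ S)
    (hv : v ∈ Ef (f n).val p) : Pj P S v ∈ Ef (f n).val p := by
  obtain ⟨c, hc⟩ := nw_coord hf hn
  rintro (i | r)
  · have h1 : ∀ j, (((Mw C w * P) i j : ℤ) : K) = (P * Mw C w) i j := fun j => by
      rw [← sub_eq_zero, ← Int.cast_sub, CharP.intCast_eq_zero_iff K p]; exact hP i j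
    have h2 : ∀ a : ℤ, (a : K) ^ p = a := fun a => map_intCast (frobenius K p) a
    simp only [mul_apply, Int.cast_sum, Int.cast_mul] at h1
    simp only [(hc _).1, Pj, elim_inl, sum_pow_char, mul_pow, ← hv (inl _), h2, mul_sum]
    rw [sum_comm, sum_comm (f := fun a b => (P i a : K) * (_ * v (inl b)))]
    simp only [← mul_assoc, ← sum_mul, h1]
  · obtain ⟨s, rfl⟩ := w.surjective r
    by_cases e : s ∈ S
    · simpa [(hc _).2, Pj, e, (hS s).2 e] using hv (inr (w s))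
    · simp [(hc _).2, Pj, e, mt (hS s).1 e, (Fact.out : p.Prime).ne_zero]

theorem orb_le (hf : ρ.IsAdHom f) (hG : ρ.Gp = ⊤) (hC : C.Conn) {L : ℤ}
    (hℓ : ∀ r, 1 * C.len r = L) (hJ : Ort C J R) (h2 : (2 : K) ≠ 0) (hn : ρ.NW n w)
    (hE : Rat K p (Ef (f n).val p))
    (hw : ∀ r, C.InSub J (w r) ∧ C.Pos (w r) ↔ C.InSub J r ∧ C.Pos r) (hv : v ∈ Dm C K J R)
    {O : Finset (B ⊕ ι → K)}
    (hO : ∀ x ∈ O, x ∈ Ef (f n).val p ∧ ∃ g ∈ ρ.U R ⊔ ρ.H, (f g).val *ᵥ v = x) {N j : ℕ}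
    (hN : {r | C.InSub J r ∧ C.Pos r}.ncard ≤ N) (hj : J.ncard ≤ j) :
    #O ≤ (p ^ N / p + 1) * p ^ (j + N) := by
  have hl : C.SameLen := fun r s => by rw [← one_mul (C.len r), hℓ, ← hℓ s, one_mul]
  obtain ⟨κ, hκ⟩ : ∃ κ, κ = (kap C fun _ => 1).map (Int.castRingHom K) := ⟨_, rfl⟩
  have hb : ∀ x y, toBilin' κ x y = toBilin' κ y x := fun x y => by
    rw [toBilin'_apply', toBilin'_apply', dotProduct_mulVec, ← mulVec_transpose, dotProduct_comm, hκ,
      ← transpose_map, kap_symm hℓ]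
  have h3 : ∀ r x, (κ *ᵥ x) (inr r) = x (inr (C.neg r)) := fun r x => by
    simpa [LieBasis.bv, hκ] using kap_ev (C := C) (ℓ := fun _ => 1) r x
  have h4 : ∀ x ∈ O, ∀ y ∈ O, x - y ∈ Wc K J {r | C.InSub J r} := fun x hx y hy => by
    obtain ⟨-, a, ha, rfl⟩ := hO x hx
    obtain ⟨-, b, hb, rfl⟩ := hO y hy
    simpa using sub_mem (orb_mem hf hl hJ ha hv) (orb_mem hf hl hJ hb hv)
  refine fib (Fact.out : p.Prime).pos hE (toBilin' κ) hb h2 (Pj 0 {r | C.InSub J r ∧ C.Pos r})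
    (P := Wc K ∅ {r | C.InSub J r ∧ C.Pos r}) (Z := Wc K J (C.neg '' {r | C.InSub J r ∧ C.Pos r}))
    (Z' := Wc K J {r | C.InSub J r ∧ C.Pos r}) (fun x hx y hy => ?_)
    (fun x => ⟨by simp [Pj], fun r hr => Set.indicator_of_notMem hr fun r => x (inr r)⟩)
    (fun x hx => Ef.sub hx (Pj_mem hf hn (by simp) hw hx)) (fun x hx => (hO x hx).1)
    (fun x hx y hy => ?_) (fun x hx y hy => ⟨fun i hi => by simpa [Pj] using (h4 x hx y hy).1 i hi,
      fun r hr => ?_⟩) (fun x hx y hy h => ⟨(h4 x hx y hy).1, fun r hr => ?_⟩)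
    (rk_Wc.trans (by simpa)) (rk_Wc.trans (add_le_add hj ((Set.ncard_image_le).trans hN)))
    (rk_Wc.trans (add_le_add hj hN))
  · rw [toBilin'_apply', dotProduct, Fintype.sum_sum_type, sum_eq_zero, sum_eq_zero, add_zero]
    · intro r _
      by_cases e : C.Pos r
      · rw [h3, hy.2 _ fun h => (C.pos_neg_iff r).1 h.2 e, mul_zero]
      · rw [hx.2 _ fun h => e h.2, zero_mul]
    · exact fun i _ => by rw [hx.1 i id, zero_mul]
  · obtain ⟨-, a, -, rfl⟩ := hO x hx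
    obtain ⟨-, b, -, rfl⟩ := hO y hy
    simp only [toBilin'_apply', hκ, kap_inv hC hℓ hf (hG ▸ Subgroup.mem_top _)]
  · by_cases e : C.InSub J r ∧ C.Pos r
    · simp [Pj, e]
    · simpa [Pj, e] using (h4 x hx y hy).2 r fun h => hr ⟨C.neg r,
        ⟨C.inSub_neg.2 h, (C.pos_neg_iff r).2 fun h' => e ⟨h, h'⟩⟩, C.neg_neg r⟩
  · by_cases e : C.InSub J r
    · have := h (ev B K (C.neg r)) ⟨by simp [LieBasis.bv], fun s hs => by
        rw [ev, LieBasis.bv_apply, if_neg]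
        rintro ⟨⟩
        exact hs ⟨C.inSub_neg.2 e, (C.pos_neg_iff r).2 fun h' => hr ⟨e, h'⟩⟩⟩
      rw [hb, toBilin'_apply'] at this
      simpa [LieBasis.bv, h3] using this
    · exact (h4 x hx y hy).2 r e

end CF.Ev
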