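import Cfsg.Agent.Ev.G2

/-! Stabilizers of vectors in centralizers of semisimple elements. -/

set_option autoImplicit false

namespace CF.Ev

open CF.Chev CF.BN Finset Matrix Sum Module CF.Geom.Sm

variable {B ι : Type} [Fintype B] [DecidableEq B] [Fintype ι] [DecidableEq ι]
  {C : ChevBasis B ι} {K : Type*} [Field K] {G : Type*} [Group G] {ρ : StRep C K G}
  {p : ℕ} [Fact p.Prime] [CharP K p] {h : Univ ρ} {σ : G →* G} {w : Equiv.Perm ι}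

theorem cntC (hσ : h.IsFrob p σ) (hK : Big K (Fintype.card ι + Fintype.card B)) {M : ℕ}
    (hM : 0 < M) (hw : w ∈ C.Aut) {γ : ι → Kˣ}
    (e : ∀ r t, σ (ρ.x r t) = ρ.x (w r) (γ r * t ^ p ^ M)) {S : Set ι} (hS : C.Closed S)
    (hp : ∀ r ∈ S, C.Pos r) (h1 : ∀ r ∈ S, w r ∈ S) (hH : ∀ g ∈ ρ.H, σ g ∈ ρ.H) {I : Type*}
    [Fintype I] {v : I → Equiv.Perm ι} (hv : Function.Injective v) {m : I → G}
    (hm : ∀ i, ρ.NW (m i) (v i)) (hm' : ∀ i, ρ.NW (σ (m i)) (v i)) (ha : ∀ i, m i ∈ h.Alg p)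
    (h2 : ∀ i, ∀ r ∈ S, ¬ C.Pos (v i r) → ¬ C.Pos (v i (w r))) {Γ : Subgroup G} (h3 : ρ.U S ≤ Γ)
    (h4 : ρ.H ≤ Γ) (h5 : ∀ i, m i ∈ Γ) :
    ∑ i, (p ^ M) ^ S.ncard * (Nat.card {t // t ∈ ρ.H ∧ σ t = t} *
      (p ^ M) ^ {r | r ∈ S ∧ ¬ C.Pos (v i r)}.ncard) ≤ Nat.card {g // g ∈ Γ ∧ σ g = g} := by
  have fin : ∀ T : Subgroup G, Finite {u // u ∈ T ∧ σ u = u} := fun T =>
    (hσ.finite.subset fun _ h => h.2 : {u | u ∈ T ∧ σ u = u}.Finite)
  have h6 : ∀ i, ∃ n ∈ Γ, ρ.NW n (v i) ∧ σ n = n := fun i => by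
    obtain ⟨y, hy, e⟩ := hσ.lang_sub hK (L := ρ.H) (S := ∅) (w₀ := 1) (fun _ h => h.elim) (by simp)
      (by simp) (fun g hg => ⟨1, 1, one_mem _, g, StRep.nW_of_mem_H hg, 1, one_mem _, by simp,
        fun _ => rfl⟩) (by simp) le_rfl StRep.nW_one (one_mem _) hH
      ((hm i).mul_inv_mem_H (hm' i)) (mul_mem (ha i) (inv_mem (hσ.map_Alg (ha i))))
    refine ⟨y⁻¹ * m i, mul_mem (inv_mem (h4 hy)) (h5 i),
      by simpa using (StRep.nW_of_mem_H (inv_mem hy)).mul (hm i), ?_⟩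
    rw [map_mul, map_inv, eq_inv_mul_iff_mul_eq, ← mul_assoc, ← e, inv_mul_cancel_right]
  choose n h6 h7 h8 using h6
  have h9 : ∀ i, ρ.U {r | r ∈ S ∧ ¬ C.Pos (v i r)} ≤ ρ.Uw (v i) := fun i =>
    ρ.U_mono fun r hr => ⟨hp r hr.1, hr.2⟩
  have h10 : ρ.U S ≤ ρ.Up := ρ.U_mono hp
  refine le_trans ?_ (Nat.card_le_card_of_injective (fun a : Σ i, {u // u ∈ ρ.U S ∧ σ u = u} ×
    {t // t ∈ ρ.H ∧ σ t = t} × {u // u ∈ ρ.U {r | r ∈ S ∧ ¬ C.Pos (v i r)} ∧ σ u = u} =>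
      ⟨a.2.1 * a.2.2.1 * n a.1 * a.2.2.2, mul_mem (mul_mem (mul_mem (h3 a.2.1.2.1) (h4 a.2.2.1.2.1))
        (h6 _)) (h3 (ρ.U_mono (fun _ h => h.1) a.2.2.2.2.1)), by
          simp only [map_mul, a.2.1.2.2, a.2.2.1.2.2, a.2.2.2.2.2, h8]⟩) ?_)
  · rw [Nat.card_sigma]
    refine sum_le_sum fun i _ => ?_
    rw [Nat.card_prod, Nat.card_prod]
    refine Nat.mul_le_mul (cntU hσ hK hM hw e hS hp h1) (Nat.mul_le_mul_left _ (cntU hσ hK hM hw e
      ?_ (fun r hr => hp r hr.1) fun r hr => ⟨h1 r hr.1, h2 i r hr.1 hr.2⟩))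
    convert hS.inter (C.closed_pos_neg (h7 i).mem_Aut) using 1
    ext r; simpa using fun h _ => hp r h
  · rintro ⟨i, a, t, b⟩ ⟨i', a', t', b'⟩ e
    replace e : a.1 * t.1 * n i * b.1 = a'.1 * t'.1 * n i' * b'.1 := congrArg Subtype.val e
    have h11 : ∀ (a : {u // u ∈ ρ.U S ∧ σ u = u}) (t : {t // t ∈ ρ.H ∧ σ t = t}),
        a.1 * t.1 ∈ ρ.Bo := fun a t => StRep.mem_Bo.2 ⟨_, h10 a.2.1, _, t.2.1, rfl⟩
    obtain rfl : i = i' := hv (StRep.cell_unique h.faith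
      ((h7 i).mem_cell_iff_sharp.2 ⟨_, h11 a t, _, h9 i b.2.1, rfl⟩)
      ((h7 i').mem_cell_iff_sharp.2 ⟨_, h11 a' t', _, h9 i' b'.2.1, e⟩))
    obtain ⟨h12, h13⟩ := StRep.sharp_unique h.faith (h7 i).acts (h11 a t) (h11 a' t') (h9 i b.2.1)
      (h9 i b'.2.1) e
    obtain ⟨h14, h15⟩ := StRep.eq_of_Up_mul_H h.faith (h10 a.2.1) (h10 a'.2.1) t.2.1 t'.2.1 h12
    rw [Subtype.ext h13, Subtype.ext h14, Subtype.ext h15]

variable (hσ : h.IsFrob p σ) (hK : Big K (Fintype.card ι + Fintype.card B))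
  (e : ∀ r t, σ (ρ.x r t) = ρ.x r (t ^ p)) {f : G →* GL (B ⊕ ι) K} (hf : ρ.IsAdHom f)
  {c : B → Kˣ} {l : List B} {y : G}
include e

theorem σ_tor' (c : B → Kˣ) : σ (h.r3.tor c) = h.r3.tor (c ^ p) :=
  (fh_tor (τ := frobenius K p) e h.r3 h.r3 c).trans (congrArg _ (funext fun _ => Units.ext
    (Units.val_pow_eq_pow_val _ _).symm))

theorem fix_tor (h1 : mp (Mw C (C.wp l)) c = c ^ p) :
    (MulAut.conj (ρ.nw l)⁻¹).toMonoidHom.comp σ (h.r3.tor c) = h.r3.tor c := by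
  simp [σ_tor' (h := h) e, ← h1, ← conj_tor h.r3 (ρ.acts_nw l), mul_assoc]

include h hf in
theorem ad_frob (g : G) (v : B ⊕ ι → K) (a : B ⊕ ι) :
    ((f (σ g)).val *ᵥ fun a => v a ^ p) a = ((f g).val *ᵥ v) a ^ p := by
  have := DFunLike.congr_fun (StRep.hom_ext h.top (f := f.comp σ)
    (g := (GeneralLinearGroup.map (frobenius K p)).comp f) fun r t => Units.ext (by
      rw [MonoidHom.comp_apply, MonoidHom.comp_apply, e, hf, hf]
      exact (C.X_map' (frobenius K p) r t).symm)) g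
  rw [MonoidHom.comp_apply] at this
  rw [this]
  exact ((frobenius K p).map_mulVec (f g).val v a).symm

include hσ hK in
theorem twist (hc : IsOfFinOrder c) (h1 : mp (Mw C (C.wp l)) c = c ^ p) (hy : y ∈ h.Alg p)
    (h2 : σ (y * h.r3.tor c * y⁻¹) = y * h.r3.tor c * y⁻¹) :
    ∃ z, σ z * ρ.nw l = z ∧ z * h.r3.tor c * z⁻¹ = y * h.r3.tor c * y⁻¹ := by
  obtain ⟨z, -, h3, h4⟩ := (hσ.conj (inv_mem (h.nw_mem_Alg l))).lang_cent hK hc (fix_tor (h := h) e h1)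
    (g := y⁻¹ * σ y * ρ.nw l) (by
      rw [map_mul, map_mul, map_inv, σ_tor' (h := h) e, ← h1, ← conj_tor h.r3 (ρ.acts_nw l),
        mul_inv_eq_iff_eq_mul, ← mul_assoc, mul_inv_eq_iff_eq_mul, ← mul_assoc] at h2
      rw [Commute, SemiconjBy, mul_assoc y⁻¹, mul_assoc y⁻¹, h2]
      group) (mul_mem (mul_mem (inv_mem hy) (hσ.map_Alg hy)) (h.nw_mem_Alg l))
  refine ⟨y * z, ?_, by rw [mul_assoc y, h3.eq]; group⟩
  rw [eq_mul_inv_iff_mul_eq] at h4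
  rw [map_mul]
  conv_rhs => rw [← h4]
  simp [mul_assoc]

include hσ hK hf in
theorem core (hC : C.Conn) {L : ℤ} (hℓ : ∀ r, 1 * C.len r = L) (h2 : (2 : K) ≠ 0)
    (h1 : mp (Mw C (C.wp l)) c = c ^ p) (hy : σ y * ρ.nw l = y) {u : B ⊕ ι → K}
    (hu : ∀ a, u a ^ p = u a) (hu' : (f (y * h.r3.tor c * y⁻¹)).val *ᵥ u = u) {J : Bool → Set B}
    {P : Matrix B B ℤ} (o1 : ∀ k, Ort C (J k) {r | rv C c r = 1})
    (o2 : ∀ k r, C.InSub (J k) (C.wp l r) ∧ C.Pos (C.wp l r) ↔ C.InSub (J k) r ∧ C.Pos r)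
    (o3 : ∀ r, C.InSub (J true) (C.wp l r) ↔ C.InSub (J true) r)
    (o4 : ∀ r, rv C c r = 1 → C.InSub (J true) r ∨ C.InSub (J false) r)
    (o5 : ∀ i j, (p : ℤ) ∣ (Mw C (C.wp l) * P) i j - (P * Mw C (C.wp l)) i j)
    (o6 : ∀ r, rv C c r = 1 → ∀ j, (¬ C.InSub (J true) r → (p : ℤ) ∣ ∑ i, C.sp i (C.vec r) * P i j) ∧
      (¬ C.InSub (J false) r → (p : ℤ) ∣ ∑ i, C.sp i (C.vec r) * P i j - C.sp j (C.vec r)))
    {I : Type*} [Fintype I] {m : I → List B} (o7 : ∀ i, ∀ j ∈ m i, rv C c (C.simple j) = 1)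
    (o8 : ∀ i, C.wp (m i) * C.wp l = C.wp l * C.wp (m i))
    (o9 : Function.Injective fun i => C.wp (m i))
    (o10 : ∀ r, C.wp l r ∈ Psi C c → r ∈ Psi C c)
    (o11 : ∀ i r, C.wp l r ∈ Psi C c → C.Pos (C.wp (m i) r) → C.Pos (C.wp (m i) (C.wp l r)))
    {N j : Bool → ℕ} (hN : ∀ k, {r | C.InSub (J k) r ∧ C.Pos r}.ncard ≤ N k)
    (hj : ∀ k, (J k).ncard ≤ j k) :
    ∑ i, p ^ (Psi C c).ncard * (Nat.card (WTor C K (Pm 1 p) (C.wp l)) *
      p ^ {r | r ∈ Psi C c ∧ ¬ C.Pos (C.wp (m i) r)}.ncard) ≤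
    Nat.card {g // σ g = g ∧ Commute g (y * h.r3.tor c * y⁻¹) ∧ (f g).val *ᵥ u = u} *
      ((p ^ N true / p + 1) * p ^ (j true + N true) *
        ((p ^ N false / p + 1) * p ^ (j false + N false))) := by
  classical
  have hn := StRep.nW_nw (ρ := ρ) l
  have hF := hσ.conj (inv_mem (h.nw_mem_Alg l))
  have hT := fun c => fix_tor (h := h) (c := c) (l := l) e
  obtain ⟨F, hF'⟩ : ∃ F, F = (MulAut.conj (ρ.nw l)⁻¹).toMonoidHom.comp σ := ⟨_, rfl⟩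
  rw [← hF'] at hF hT
  have h3 : ∀ g, F g = (ρ.nw l)⁻¹ * σ g * (ρ.nw l)⁻¹⁻¹ := fun g => by rw [hF']; rfl
  have h4 : ∀ g, F g = g → σ g * ρ.nw l = ρ.nw l * g := fun g hg => by
    rw [h3, inv_inv, mul_assoc, inv_mul_eq_iff_eq_mul] at hg; exact hg
  obtain ⟨-, γ, -, hγ⟩ := hn.inv.acts
  obtain ⟨Γ, hΓ⟩ : ∃ Γ, Γ = ρ.U {r | rv C c r = 1} ⊔ ρ.H := ⟨_, rfl⟩
  have fin : ∀ T : Subgroup G, Finite {u // u ∈ T ∧ F u = u} := fun T =>
    (hF.finite.subset fun _ h => h.2 : {u | u ∈ T ∧ F u = u}.Finite)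
  have h5 := cntC hF hK one_pos hn.inv.mem_Aut (γ := γ) (fun r t => by rw [h3, e, hγ, pow_one])
    (closed_Psi (c := c)) (fun _ h => h.1) (fun r hr => o10 _ (by simpa)) (fun g hg => by
      obtain ⟨d, rfl⟩ := h.r3.range_tor.ge hg
      rw [h3, σ_tor' (h := h) e, conj_tor h.r3 hn.inv.acts]; exact tor_mem_H _ _) o9
    (fun i => StRep.nW_nw (m i)) (fun i => by
      rw [h3, fh_nw (τ := frobenius K p) e, inv_inv]
      simpa [mul_assoc, o8] using (hn.inv.mul (StRep.nW_nw (m i))).mul hn)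
    (fun i => h.nw_mem_Alg _) (fun i r hr h h' => h (by simpa using o11 i _ (by simpa) h'))
    (Γ := Γ) (hΓ ▸ (ρ.U_mono fun _ h => h.2).trans le_sup_left) (hΓ ▸ le_sup_right) fun i => by
      rw [hΓ]
      refine Subgroup.mem_sup_left (list_prod_mem fun g hg => ?_)
      obtain ⟨j, hj, rfl⟩ := List.mem_map.1 hg
      exact ρ.n_mem_U (o7 i j hj) (by simp [rv_neg, o7 i j hj]) 1
  have h6 := Nat.card_le_card_of_injective (β := {t // t ∈ ρ.H ∧ F t = t})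
    (fun d : WTor C K (Pm 1 p) (C.wp l) => ⟨h.r3.tor d, tor_mem_H _ _, hT _ (mem_WTor_one.1 d.2)⟩)
    fun a b e => Subtype.ext (h.inj (congrArg Subtype.val e))
  rw [pow_one] at h5
  refine ((sum_le_sum fun i _ => Nat.mul_le_mul_left _ (Nat.mul_le_mul_right _ h6)).trans h5).trans ?_
  have h7 : ∀ g x, (f (ρ.nw l)).val *ᵥ x = (fun a => x a ^ p) →
      ∀ a, ((f (σ g * ρ.nw l)).val *ᵥ x) a = ((f g).val *ᵥ x) a ^ p := fun g x hx a => by
    rw [map_mul, Units.val_mul, ← mulVec_mulVec, hx, ad_frob (h := h) e hf]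
  have hE : Rat K p (Ef (f (ρ.nw l)).val p) := fun O U h1 => rat_of (toLin' (f y).val)
    (mulVec_injective_iff_isUnit.2 (f y).isUnit) O U fun x hx a => by
      simpa [hy] using (h7 y x (funext (h1 x hx)) a).symm
  obtain ⟨v, hv⟩ : ∃ v, v = (f y⁻¹).val *ᵥ u := ⟨_, rfl⟩
  have h8 : v ∈ Ef (f (ρ.nw l)).val p := fun a => by
    rw [hv, ← ad_frob (h := h) e hf, funext hu, mulVec_mulVec, ← Units.val_mul, ← map_mul, map_inv σ,
      eq_mul_inv_of_mul_eq hy]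
    simp
  have h9 : ∀ r, rv C c r ≠ 1 → v (inr r) = 0 := fun r hr => by
    have : (f (h.r3.tor c)).val *ᵥ v = v := by
      conv_rhs => rw [hv, ← hu']
      simp [hv, ← mul_assoc]
    have := congrFun this (inr r)
    rw [ad_tor h.r3 hf, C.val_tG, LieBasis.TM, mulVec_diagonal] at this
    exact (mul_left_eq_self₀.1 this).resolve_left fun h => hr (Units.ext h)
  have h10 : ∀ r, ∑ i, (C.sp i (C.vec r) : K) * Pj P {r | C.InSub (J true) r} v (inl i) =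
      ∑ j, (∑ i, C.sp i (C.vec r) * P i j : ℤ) * v (inl j) := fun r => by
    simp only [Pj, elim_inl, mul_sum, Int.cast_sum, Int.cast_mul, sum_mul, mul_assoc]
    exact sum_comm
  let x : Bool → B ⊕ ι → K := fun k => cond k (Pj P {r | C.InSub (J true) r} v)
    (v - Pj P {r | C.InSub (J true) r} v)
  have h11 : ∀ k, x k ∈ Ef (f (ρ.nw l)).val p ∧ x k ∈ Dm C K (J k) {r | rv C c r = 1} := by
    have := Pj_mem hf hn o5 (S := {r | C.InSub (J true) r}) o3 h8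
    rintro (_ | _)
    · refine ⟨Ef.sub h8 this, fun r hr => ?_, fun r hr h' => ?_⟩
      · by_cases h' : C.InSub (J true) r
        · simp [x, Pj, h']
        · simp [x, Pj, h', h9 r fun h => (o4 r h).elim h' hr]
      · simp only [x, cond_false, Pi.sub_apply, mul_sub, sum_sub_distrib, h10]
        rw [sub_eq_zero]
        refine sum_congr rfl fun j _ => ?_
        rw [eq_comm, ← sub_eq_zero, ← sub_mul, ← Int.cast_sub,
          (CharP.intCast_eq_zero_iff K p _).2 ((o6 r hr j).2 h'), zero_mul]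
    · refine ⟨this, fun r hr => by simp [x, Pj, hr], fun r hr h' => (h10 r).trans ?_⟩
      exact sum_eq_zero fun j _ => by
        rw [(CharP.intCast_eq_zero_iff K p _).2 ((o6 r hr j).1 h'), zero_mul]
  have : Finite (Γ ⊓ Fx F : Subgroup G) := fin Γ
  let _ := Fintype.ofFinite (Γ ⊓ Fx F : Subgroup G)
  let r := (((toLinAlgEquiv' (R := K)).toMulEquiv.toMonoidHom.comp (Units.coeHom _)).comp f).comp
    (Γ ⊓ Fx F).subtype
  have hr : ∀ g x, r g x = (f g).val *ᵥ x := fun g x => toLin'_apply _ _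
  have h12 : ∀ k, #(univ.image fun g => r g (x k)) ≤ (p ^ N k / p + 1) * p ^ (j k + N k) := fun k =>
    orb_le hf h.top hC hℓ (o1 k) h2 hn hE (o2 k) (h11 k).2 (by
      simp only [forall_mem_image, hr]
      exact fun g _ => ⟨fun a => by
        rw [mulVec_mulVec, ← Units.val_mul, ← map_mul, ← h4 _ g.2.2, h7 _ _ (funext (h11 k).1)],
        g, hΓ ▸ g.2.1, rfl⟩) (hN k) (hj k)
  refine (pigeon r (x true) (x false)).trans (Nat.mul_le_mul ?_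
    (Nat.mul_le_mul (h12 true) (h12 false)))
  have : Finite {g // σ g = g ∧ Commute g (y * h.r3.tor c * y⁻¹) ∧ (f g).val *ᵥ u = u} :=
    (hσ.finite.subset fun _ h => h.1 : {g | σ g = g ∧ _}.Finite)
  refine Nat.card_le_card_of_injective (fun g => ⟨y * g.1 * y⁻¹, ?_, ?_, ?_⟩) fun a b e =>
    Subtype.ext (Subtype.ext ((MulAut.conj y).injective (congrArg Subtype.val e)))
  · rw [map_mul, map_mul, map_inv, eq_mul_inv_of_mul_eq hy, eq_mul_inv_of_mul_eq (h4 _ g.1.2.2)]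
    group
  · obtain ⟨a, ha, b, hb, e⟩ := StRep.mem_U_sup_H.1 (hΓ.le g.1.2.1)
    rw [e]
    exact ((commute_tor_U h.r3 ha).mul_left (commute_tor_H h.r3 hb)).map (MulAut.conj y)
  · have := g.2
    simp only [hr, show x true + x false = v by simp [x]] at this
    rw [hv] at this
    rw [map_mul, map_mul, Units.val_mul, Units.val_mul, ← mulVec_mulVec, ← mulVec_mulVec, this]
    simp

end CF.Ev
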