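import Cfsg.Agent.Ev.G3

/-! Elements of order `7` in `E₈(3)`: stabilizers of fixed vectors. -/

set_option autoImplicit false

namespace CF.Ev

open CF.Chev CF.BN CF.ExA CF.E83 Cfsg.Lie Finset Matrix CF.Geom.Sm

theorem det_cert {n : ℕ} {A L : Matrix (Fin n) (Fin n) ℤ} {T : ℤ} (h : (∀ i j, i < j → L i j = 0) ∧
    (∀ i j, j < i → (L * A) i j = 0) ∧ ∏ i, L i i ≠ 0 ∧ (∏ i, L i i) * T = ∏ i, (L * A) i i) :
    A.det = T := by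
  rw [← det_of_isLowerTriangular L fun i j e => h.1 i j e, ← det_of_isUpperTriangular h.2.1,
    det_mul] at h
  exact (mul_left_cancel₀ h.2.2.1 h.2.2.2).symm

theorem pos8 : ∀ r : Fin 240, cE8.Pos r ↔ 120 ≤ r.1 := by decide +kernel

/-- The action of a word. -/
def aF (w : List (Fin 8)) (r : Fin 240) : Fin 240 := Fin.ofNat 240 (actT tabE8 (w.map Fin.val) r)

theorem wp_eq (w : List (Fin 8)) (r : Fin 240) : cE8.wp w r = aF w r := by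
  rw [aF, ← tabOf8.wp, Fin.ofNat_val_eq_self]

/-- A matrix given by its rows. -/
def mx (M : List (List ℤ)) : Matrix (Fin 8) (Fin 8) ℤ := of fun i j => gd M i j

/-- A certificate. -/
structure Ct where
  /-- the element -/
  x : List ℤ
  /-- the twist -/
  l : List (Fin 8)
  /-- the components -/
  J : Bool → List (Fin 8)
  /-- the matrix of the twist -/
  M : List (List ℤ)
  /-- the projection -/
  P : List (List ℤ)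
  /-- the elimination -/
  L : List (List ℤ)
  /-- the cells -/
  ms : List (List (Fin 8))
  /-- the order of the torus -/
  T : ℕ
  /-- the bound -/
  k : ℕ

namespace Ct

variable (D : Ct)

/-- The components. -/
def S (k : Bool) : Set (Fin 8) := {i | i ∈ D.J k}

instance instDecS (k : Bool) (i : Fin 8) : Decidable (i ∈ D.S k) :=
  inferInstanceAs (Decidable (i ∈ D.J k))

noncomputable instance instDecIn (k : Bool) (r : Fin 240) : Decidable (cE8.InSub (D.S k) r) :=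
  inferInstanceAs (Decidable (∀ i, i ∉ D.S k → cE8.vec r i = 0))

/-- The roots of the centralizer. -/
abbrev Z (r : Fin 240) : Prop := xv 7 (gl D.x) r = 0

/-- The conditions on a root. -/
abbrev okR (r s : Fin 240) : Prop :=
  (∀ k, (D.Z r → ¬ cE8.InSub (D.S k) r → ∀ j ∈ D.S k, tabE8.car j r = 0) ∧
    (cE8.InSub (D.S k) s ∧ 120 ≤ s.1 ↔ cE8.InSub (D.S k) r ∧ 120 ≤ r.1)) ∧
  (cE8.InSub (D.S true) s ↔ cE8.InSub (D.S true) r) ∧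
  (D.Z r → cE8.InSub (D.S true) r ∨ cE8.InSub (D.S false) r) ∧
  (D.Z r → ∀ j, (¬ cE8.InSub (D.S true) r → 3 ∣ ∑ i : Fin 8, tabE8.car i r * mx D.P i j) ∧
    (¬ cE8.InSub (D.S false) r → 3 ∣ ∑ i : Fin 8, tabE8.car i r * mx D.P i j - tabE8.car j r)) ∧
  (120 ≤ s.1 ∧ D.Z s → 120 ≤ r.1 ∧ D.Z r) ∧ ∀ m ∈ D.ms, aF m s = aF D.l (aF m r) ∧
    (120 ≤ s.1 ∧ D.Z s → 120 ≤ (aF m r).1 → 120 ≤ (aF m s).1)

/-- The bound for an orbit. -/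
noncomputable def bd (k : Bool) : ℕ := (3 ^ #{r | cE8.InSub (D.S k) r ∧ 120 ≤ r.1} / 3 + 1) *
  3 ^ (#{i | i ∈ D.S k} + #{r | cE8.InSub (D.S k) r ∧ 120 ≤ r.1})

/-- The matrix of the Lang map. -/
def A : Matrix (Fin 8) (Fin 8) ℤ := diagonal (fun _ => 3) - mx D.M

/-- The conditions. -/
abbrev Ok : Prop :=
  allLt 240 (fun r => force (aF D.l (Fin.ofNat 240 r)) fun s =>
    decide (D.okR (Fin.ofNat 240 r) (Fin.ofNat 240 s))) ∧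
  chkW 7 D.l (gl D.x) (fun i => 3 * gl D.x i) ∧
  (∀ i j : Fin 8, MwT tabE8 (D.l.map Fin.val) i j = gd D.M i j) ∧
  (∀ i j, 3 ∣ (mx D.M * mx D.P) i j - (mx D.P * mx D.M) i j) ∧
  ((∀ i j : Fin 8, i < j → gd D.L i j = 0) ∧
    (∀ i j, j < i → (mx D.L * D.A) i j = 0) ∧ ∏ i, mx D.L i i ≠ 0 ∧
    (∏ i, mx D.L i i) * D.T = ∏ i, (mx D.L * D.A) i i) ∧
  (∀ m ∈ D.ms, ∀ j ∈ m, D.Z (cE8.simple j)) ∧
  (D.ms.map fun m => (List.finRange 8).map fun j => aF m (cE8.simple j)).Nodup ∧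
  D.k * (D.bd true * D.bd false) < (D.ms.map fun m => 3 ^ #{r | 120 ≤ r.1 ∧ D.Z r} *
    (D.T * 3 ^ #{r | (120 ≤ r.1 ∧ D.Z r) ∧ ¬ 120 ≤ (aF m r).1})).sum

variable {D} {X : Type*} [Group X] (L : LS cE8 1 3 3 1 X) {f : L.G →* GL (Fin 8 ⊕ Fin 240) L.K}

theorem Ok.big (h : D.Ok) (hf : L.ρ.IsAdHom f) {μ : L.Kˣ} (hμ : orderOf μ = 7) {x : X} {y : L.G}
    (hy : y ∈ L.h.Alg 3) (e : jG L x = y * L.h.r3.tor (fun i => μ ^ vv (gl D.x) i) * y⁻¹)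
    {u : Fin 8 ⊕ Fin 240 → L.K} (hu : ∀ a, u a ^ 3 = u a) (e' : RR f (jG L x) u = u) :
    D.k < Nat.card {g // g * x = x * g ∧ RR f (jG L g) u = u} := by
  obtain ⟨h1, h2, h3, h4, h5, h6, h7, h8⟩ := h
  replace h1 : ∀ r, D.okR r (cE8.wp D.l r) := fun r => by
    simpa only [force_eq, Fin.ofNat_val_eq_self, decide_eq_true_eq, ← wp_eq] using
      allLt_iff.1 h1 r r.2
  obtain ⟨c, hc⟩ : ∃ c, c = fun i => μ ^ vv (gl D.x) i := ⟨_, rfl⟩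
  have hZ : ∀ r, rv cE8 c r = 1 ↔ D.Z r := fun r => by
    have := xv_eq (m := 7) (by decide) (gl D.x) r
    rw [hc, rv_zp, ← orderOf_dvd_iff_zpow_eq_one, hμ, Z]
    omega
  have hP : ∀ r, r ∈ Psi cE8 c ↔ 120 ≤ r.1 ∧ D.Z r := fun r => and_congr (pos8 r) (hZ r)
  have hw : mp (Mw cE8 (cE8.wp D.l)) c = c ^ 3 := by
    rw [hc, mp_zpow, zp_pow', zp_iff hμ]; exact of_chkW h2
  have hM : Mw cE8 (cE8.wp D.l) = mx D.M := Matrix.ext fun i j => (tabOf8.Mw _ i j).trans (h3 i j)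
  have hs : ∀ j r, cE8.sp j (cE8.vec r) = tabE8.car j r := fun j r => by
    rw [← cE8.A_simple, tabOf8.car]
  have hσ : ∀ g, L.T.σ (jG L g) = jG L g := fun g =>
    ((MulEquiv.ofBijective L.θ (θ_bij L)).symm g).2
  rw [← hc] at e
  obtain ⟨z, h9, h10⟩ := twist L.frob L.big L.σ_x (isOfFinOrder_iff_pow_eq_one.2 ⟨7, by decide, by
    rw [hc, zp_pow, ← hμ, pow_orderOf_eq_one]; funext i; simp⟩) hw hy (e ▸ hσ x)
  rw [← h10] at e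
  have h11 := core L.frob L.big L.σ_x hf goodE8.conn (L := cE8.len 0)
    (fun r => (one_mul _).trans (sameLenE8 r _)) (fun h => by
        have : (3 : L.K) = 0 := CharP.cast_eq_zero L.K 3
        exact one_ne_zero (α := L.K) (by linear_combination this - h)) hw h9 hu (e ▸ e')
    (J := D.S) (P := mx D.P) (fun k r hr h j hj => (hs j r).trans (((h1 r).1 k).1 ((hZ r).1 hr) h j hj))
    (fun k r => by simpa only [pos8] using ((h1 r).1 k).2) (fun r => (h1 r).2.1)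
    (fun r hr => (h1 r).2.2.1 ((hZ r).1 hr)) (hM ▸ h4)
    (fun r hr => by simpa only [hs, Nat.cast_ofNat] using (h1 r).2.2.2.1 ((hZ r).1 hr))
    (m := fun i : Fin D.ms.length => D.ms[i.1])
    (fun i j hj => (hZ _).2 (h6 _ (List.getElem_mem _) j hj))
    (fun i => Equiv.ext fun r => by
      simpa only [← wp_eq, Equiv.Perm.mul_apply] using ((h1 r).2.2.2.2.2 _ (List.getElem_mem i.2)).1)
    (fun i j e => Fin.ext ((List.Nodup.getElem_inj_iff h7 (hi := by simp) (hj := by simp)).1 (by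
      simp only [List.getElem_map, ← wp_eq, show cE8.wp D.ms[i.1] = _ from e])))
    (fun r hr => (hP r).2 ((h1 r).2.2.2.2.1 ((hP _).1 hr)))
    (fun i r hr => by
      simpa only [pos8, wp_eq] using ((h1 r).2.2.2.2.2 _ (List.getElem_mem i.2)).2 ((hP _).1 hr))
    (N := fun k => #{r | cE8.InSub (D.S k) r ∧ 120 ≤ r.1}) (j := fun k => #{i | i ∈ D.S k})
    (fun k => by rw [← Set.ncard_coe_finset]; simp [pos8])
    (fun k => by rw [← Set.ncard_coe_finset]; simp)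
  have h12 := card_WTor (K := L.K) (q := 3) (by decide) L.cast_q (cE8.wp_mem_Aut D.l)
  rw [hM, Nat.cast_ofNat, ← A, det_cert (L := mx D.L) h5, Nat.cast_inj] at h12
  rw [← Fin.sum_univ_fun_getElem] at h8
  simp only [← Set.ncard_coe_finset, coe_filter, mem_univ, true_and, ← wp_eq, ← pos8] at h8
  simp only [pos8, ← hP] at h8
  simp only [pos8, h12] at h11
  have : Finite (Fx L.T.σ) := L.frob.finite
  have : Finite X := Finite.of_surjective _ L.surj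
  refine (lt_of_mul_lt_mul_right (h8.trans_le h11) (Nat.zero_le _)).trans_le
    (Nat.card_le_card_of_injective (fun g => ⟨L.θ ⟨g, g.2.1⟩, jG_inj L ?_, ?_⟩) fun a b e => ?_)
  · rw [map_mul, map_mul, jG_θ, e]; exact g.2.2.1
  · rw [jG_θ]; exact g.2.2.2
  · exact Subtype.ext (Subtype.mk.inj ((θ_bij L).1 (congrArg Subtype.val e)))

end Ct

/-- Type `D₄A₂`. -/
def ct1 : Ct where
  x := [10, 14, 19, 28, 23, 18, 12, 6]
  l := [0, 2, 3, 4, 5, 1, 3, 4, 2, 3, 0, 2, 1, 3, 4, 5, 6, 7, 5, 4, 3, 2, 1, 3, 4, 5, 6, 5, 4, 3,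
    2, 1, 3, 4, 5]
  J k := cond k [1, 2, 3, 4] [6, 7]
  M := [[2, 0, 0, 0, 0, -1, 0, 0], [2, 0, 0, 0, 1, -2, 0, 0], [3, 1, 0, 0, 0, -2, 0, 0], [4, 0, 0,
    1, 0, -3, 0, 0], [3, 0, 1, 0, 0, -2, 0, 0], [3, 0, 0, 0, 0, -1, 0, 0], [2, 0, 0, 0, 0, -1,
    0, 1], [1, 0, 0, 0, 0, -1, 1, 0]]
  P := [[0, 0, 0, 0, 0, 0, 0, 0], [1, 1, 0, 0, 0, 1, 0, 0], [2, 0, 1, 0, 0, 1, 0, 0],
    [2, 0, 0, 1, 0, 2, 0, 0], [1, 0, 0, 0, 1, 2, 0, 0]]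
  L := [[1], [2, 1], [11, 1, 3], [4, 0, 0, 1], [38, 1, 3, 0, 9], [3, 0, 0, 0, 0, 1],
    [5, 0, 0, 0, 0, -3, 7], [8, 0, 0, 0, 0, -9, 7, 21]]
  ms := [[1, 2, 3, 1, 2, 3, 4, 3, 1, 2, 3, 4, 6, 7, 6], [6, 7, 6, 4, 3, 2, 1, 3, 4, 2, 1, 3, 2, 1]]
  T := 2912
  k := 42

/-- Type `E₆`. -/
def ct2 : Ct where
  x := [6, 9, 12, 18, 15, 12, 9, 5]
  l := [7, 6, 5, 4, 3, 2, 1, 3, 4, 5, 6, 0, 2, 3, 4, 5, 1, 3, 4, 2, 3, 0, 2, 1, 3, 4, 5, 6]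
  J k := cond k [0, 1, 2, 3, 4, 5] []
  M := [[0, 0, 0, 0, 0, 1, -2, 2], [0, 1, 0, 0, 0, 0, -2, 3], [0, 0, 0, 0, 1, 0, -3, 4], [0, 0, 0,
    1, 0, 0, -4, 6], [0, 0, 1, 0, 0, 0, -3, 5], [1, 0, 0, 0, 0, 0, -2, 4], [0, 0, 0, 0, 0, 0,
    -1, 3], [0, 0, 0, 0, 0, 0, -1, 2]]
  P := [[1], [0, 1], [0, 0, 1], [0, 0, 0, 1], [0, 0, 0, 0, 1], [0, 0, 0, 0, 0, 1],
    [0, 0, 0, 0, 0, 0, 1], [0, 0, 0, 0, 0, 0, 0, 1]]
  L := [[1], [0, 1], [0, 0, 1], [0, 0, 0, 1], [0, 0, 1, 0, 3], [1, 0, 0, 0, 0, 3],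
    [0, 0, 0, 0, 0, 0, 1], [0, 0, 0, 0, 0, 0, -1, 4]]
  ms := [[0, 1, 2, 0, 3, 1, 2, 0, 3, 2, 4, 3, 1, 2, 0, 3, 2, 4, 3, 1, 5, 4, 3, 1, 2, 0, 3, 2, 4, 3,
    1, 5, 4, 3, 2, 0], [0, 2, 3, 4, 5, 1, 3, 4, 2, 3, 0, 2, 1, 3, 4, 5, 1, 3, 4, 2, 3, 0, 2, 1,
    3, 4, 2, 3, 0, 2, 1, 3, 0, 2, 0], [0, 2, 3, 4, 5, 1, 3, 4, 2, 3, 0, 2, 1, 3, 4, 5, 1, 3, 4,
    2, 3, 0, 2, 1, 3, 4, 3, 0, 2, 1, 3, 0, 2, 1, 0], [0, 2, 3, 4, 5, 1, 3, 4, 2, 3, 0, 2, 1, 3,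
    4, 5, 1, 3, 4, 2, 3, 0, 2, 1, 3, 4, 3, 2, 1, 3, 0, 2, 1, 0], [0, 2, 3, 4, 5, 1, 3, 4, 2, 3,
    0, 2, 1, 3, 4, 5, 1, 3, 4, 2, 3, 0, 2, 1, 3, 4, 3, 0, 2, 1, 3, 0, 2, 0], [0, 2, 3, 4, 5, 1,
    3, 4, 2, 3, 0, 2, 1, 3, 4, 5, 3, 4, 2, 3, 0, 2, 1, 3, 4, 2, 3, 0, 2, 1, 3, 2, 1, 0], [2, 3,
    4, 5, 1, 3, 4, 2, 3, 0, 2, 1, 3, 4, 5, 1, 3, 4, 2, 3, 0, 2, 1, 3, 4, 2, 3, 0, 2, 1, 3, 0, 2,
    1]]
  T := 1792
  k := 14

theorem ok1 : ct1.Ok := by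
  refine ⟨?_, ?_, ?_, ?_, ⟨?_, ?_, ?_, ?_⟩, ?_, ?_, ?_⟩ <;> decide +kernel

theorem ok2 : ct2.Ok := by
  refine ⟨?_, ?_, ?_, ?_, ⟨?_, ?_, ?_, ?_⟩, ?_, ?_, ?_⟩ <;> decide +kernel

theorem chk7 : chk 7 fun x l => x.all (· % 7 == 0) || x == ct1.x ||
    (x == ct2.x && sl (ind 7 1 0) l == 80) := by decide +kernel

variable {X : Type*} [Group X] (L : LS cE8 1 3 3 1 X) {f : L.G →* GL (Fin 8 ⊕ Fin 240) L.K}
  (hf : L.ρ.IsAdHom f)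
include hf

theorem bigK {x : X} (hx : x ^ 7 = 1) (h1 : x ≠ 1) {u : Fin 8 ⊕ Fin 240 → L.K}
    (hu : ∀ a, u a ^ 3 = u a) (e : RR f (jG L x) u = u) :
    14 < Nat.card {g // g * x = x * g ∧ RR f (jG L g) u = u} ∧
      (dm ((RR f).comp (jG L)) x = 38 →
        42 < Nat.card {g // g * x = x * g ∧ RR f (jG L g) u = u}) := by
  obtain ⟨μ, hμ⟩ := exists_μ L (m := 7) (by decide)
  obtain ⟨w, hw, c, hc, g, hg, h2⟩ := L.frob.exists_mem_WTor L.big L.σ_tor (s := jG L x)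
    ((MulEquiv.ofBijective L.θ (θ_bij L)).symm x).2 (Nat.Coprime.coprime_dvd_left
      (orderOf_dvd_of_pow_eq_one (n := 7) (by rw [← map_pow, hx, map_one])) (by decide))
  have h7 : c ^ 7 = 1 := by
    have := congrArg (· ^ 7) h2
    simp only [conj_pow, ← map_pow, hx, map_one] at this
    exact L.h.inj (by simpa using this.symm)
  choose y _ hy using fun i => (hμ ▸ IsPrimitiveRoot.orderOf μ : IsPrimitiveRoot μ 7
    ).eq_pow_of_mem_rootsOfUnity (ξ := c i) (congrFun h7 i)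
  obtain rfl : c = fun i => μ ^ ((y i : ℕ) : ℤ) := funext fun i => by rw [zpow_natCast, hy]
  rw [mem_WTor_one, mp_zpow, zp_pow', zp_iff hμ, ← Mz_red, red_smul] at hc
  obtain ⟨v, hv, z, h4, h5⟩ := alc chk7 hw hc
  have h6 : jG L x = g * (L.ρ.nw (wd cE8 v))⁻¹ * L.h.r3.tor (fun i => μ ^ vv (gl z) i) *
      (g * (L.ρ.nw (wd cE8 v))⁻¹)⁻¹ := by
    rw [← (zp_iff hμ).2 h4, ← mp_zpow, ← conj_tor _ (nW_wd hv).acts, h2]; group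
  have h8 := mul_mem hg (inv_mem (L.h.nw_mem_Alg (wd cE8 v)))
  simp only [Bool.or_eq_true, Bool.and_eq_true, beq_iff_eq] at h5
  rcases h5 with (h | rfl) | ⟨rfl, h⟩
  · exact (h1 (eq_one_of hμ h2 hv h4 h)).elim
  · have := ok1.big L hf hμ h8 h6 hu e
    exact ⟨lt_trans (by decide) this, fun _ => this⟩
  · refine ⟨ok2.big L hf hμ h8 h6 hu e, fun h' => ?_⟩
    rw [← ES_eq (by decide), ← dm_eq hf hμ h6, h'] at h
    exact absurd h (by decide)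

end CF.Ev
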