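import Cfsg.Agent.Ev.A

/-! Fixed points of a twisted Frobenius map on a unipotent subgroup. -/

set_option autoImplicit false

namespace CF.Ev

open CF.Chev CF.BN Finset

variable {B ι : Type} [Fintype B] [DecidableEq B] [Fintype ι] [DecidableEq ι]
  {C : ChevBasis B ι} {K : Type*} [Field K] {G : Type*} [Group G] {ρ : StRep C K G}
  {p : ℕ} [Fact p.Prime] [CharP K p] {h : Univ ρ} {σ : G →* G}

theorem langU (hσ : h.IsFrob p σ) (hK : Big K (Fintype.card ι + Fintype.card B)) {S : Set ι}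
    (hS : C.Closed S) (hp : ∀ r ∈ S, C.Pos r) (hL : ∀ g ∈ ρ.U S, σ g ∈ ρ.U S) {g : G}
    (hg : g ∈ ρ.U S) (ha : g ∈ h.Alg p) : ∃ y ∈ ρ.U S, g = y * (σ y)⁻¹ := by
  classical
  obtain ⟨_, R, z, hz, hR⟩ := hK
  have h0 := set_fintype_card_le_univ S
  let e : S ⊕ Fin (Fintype.card ι + Fintype.card B - Fintype.card S) ≃
      Fin (Fintype.card ι + Fintype.card B) :=
    Fintype.equivOfCardEq (by rw [Fintype.card_sum, Fintype.card_fin, Fintype.card_fin]; omega)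
  have hal : ∀ τ : K →ₐ[R] K, Al (τ : K →+* K) := fun τ t N hN ht => τ.commutes ⟨t, hR t N hN ht⟩
  refine lang_abstract (W := Unit) (hz.comp_equiv e) (ρ.U S) (fun τ => h.fa h.r3 τ)
    (fun τ g => fh_mem_U (h.fa_x _ _))
    (fun _ a => ρ.prodL (Lp C) fun r => if h : r ∈ S then a ⟨r, h⟩ else 0) (fun τ _ a => ?_) ()
    (fun g hg => ?_) (fun a => Lp_mem_U fun r hr => dif_neg hr) (fun a b _ _ e => ?_) hL
    (fun τ => hσ.1 _ (hal τ)) hσ.finite hg (fun τ => Univ.Alg.fa_eq ha (hal τ))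
    ((hσ.conj ha).finite.subset fun y hy => by simpa [mul_inv_eq_iff_eq_mul] using hy)
  · rw [fh_prodL (h.fa_x _ _)]
    congr 1; funext r
    by_cases hr : r ∈ S <;> simp [hr]
  · obtain ⟨t, ht, rfl⟩ := exists_Lp hS hp hg
    refine ⟨(), t ∘ (↑), ?_, fun _ => rfl⟩
    congr 1; funext r
    by_cases hr : r ∈ S <;> simp [hr, ht]
  · funext r
    simpa using Lp_inj h.faith e (hp r r.2)

theorem card_sol [IsAlgClosed K] {M : ℕ} (hM : 0 < M) (δ : Kˣ) :
    Nat.card {t : K // δ * t ^ p ^ M = t} = p ^ M := by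
  classical
  have h1 := (Fact.out : p.Prime).one_lt
  have h0 : Nat.card {t : K // t ^ p ^ M = t} = p ^ M := by
    have := Polynomial.card_rootSet_eq_natDegree (K := K) (galois_poly_separable (K := K) p (p ^ M)
      (dvd_pow_self p hM.ne')) (IsAlgClosed.splits _)
    rw [FiniteField.X_pow_card_pow_sub_X_natDegree_eq K hM.ne' h1, ← Nat.card_eq_fintype_card] at this
    refine Eq.trans (Nat.card_congr (Equiv.subtypeEquivRight fun t => ?_)) this
    simp [Polynomial.mem_rootSet, FiniteField.X_pow_card_pow_sub_X_ne_zero K hM.ne' h1, sub_eq_zero]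
  obtain ⟨n, hn⟩ : ∃ n, p ^ M = n + 2 := ⟨p ^ M - 2, by have := Nat.one_lt_pow hM.ne' h1; omega⟩
  obtain ⟨ε, hε⟩ := IsAlgClosed.exists_pow_nat_eq (δ : K) n.succ_pos
  have h2 : ε ≠ 0 := by rintro rfl; exact δ.ne_zero (by simp [← hε])
  refine Eq.trans (Nat.card_congr (Equiv.subtypeEquiv (Equiv.mulLeft₀ ε h2) fun t => ?_)) h0
  rw [Equiv.mulLeft₀_apply, mul_pow, hn, ← hε, pow_succ' ε (n + 1), mul_assoc, mul_right_inj' h2]

theorem closed_diff {S T : Set ι} (hS : C.Closed S) {φ : (B → ℤ) →ₗ[ℤ] ℤ} {m : ℤ} (hm : 0 < m)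
    (h1 : ∀ r ∈ S, m ≤ φ (C.vec r)) (h2 : ∀ r ∈ T, φ (C.vec r) = m) : C.Closed (S \ T) :=
  fun r hr s hs u i j hi hj e => ⟨hS r hr.1 s hs.1 u i j hi hj e, fun hu => by
    have := h2 u hu
    rw [e, map_add, map_smul, map_smul, smul_eq_mul, smul_eq_mul] at this
    have h3 := h1 r hr.1
    have h4 := h1 s hs.1
    have : (1 : ℤ) ≤ i := by omega
    have : (1 : ℤ) ≤ j := by omega
    nlinarith⟩

/-- A twisted norm. -/
def nrm (σ : G →* G) (a : G) : ℕ → G
  | 0 => 1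
  | i + 1 => a * σ (nrm σ a i)

theorem nrm_succ (a : G) (i : ℕ) : nrm σ a (i + 1) = nrm σ a i * σ^[i] a := by
  induction i with
  | zero => simp [nrm]
  | succ i ih => rw [nrm, ih, map_mul, ← mul_assoc, Function.iterate_succ_apply', ← ih]; rfl

theorem cntU_aux (hσ : h.IsFrob p σ) (hK : Big K (Fintype.card ι + Fintype.card B)) {M : ℕ}
    (hM : 0 < M) {w : Equiv.Perm ι} {γ : ι → Kˣ}
    (e : ∀ r t, σ (ρ.x r t) = ρ.x (w r) (γ r * t ^ p ^ M)) {φ : (B → ℤ) →ₗ[ℤ] ℤ}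
    (hφ : ∀ r, φ (C.vec (w r)) = φ (C.vec r)) (n : ℕ) {S : Set ι} (hn : S.ncard ≤ n)
    (hS : C.Closed S) (hp : ∀ r ∈ S, C.Pos r) (h0 : ∀ r ∈ S, 0 < φ (C.vec r))
    (h1 : ∀ r ∈ S, w r ∈ S) :
    (p ^ M) ^ S.ncard ≤ Nat.card {u // u ∈ ρ.U S ∧ σ u = u} := by
  have fin : ∀ T : Set ι, Finite {u // u ∈ ρ.U T ∧ σ u = u} := fun T =>
    (hσ.finite.subset fun _ h => h.2 : {u | u ∈ ρ.U T ∧ σ u = u}.Finite)
  induction n generalizing S with
  | zero =>
    have : Nonempty {u // u ∈ ρ.U S ∧ σ u = u} := ⟨⟨1, one_mem _, map_one _⟩⟩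
    rw [Nat.le_zero.1 hn]; exact Nat.card_pos
  | succ n ih =>
    have : IsAlgClosed K := hK.1
    rcases S.eq_empty_or_nonempty with rfl | hne
    · exact ih (by simp) hS hp h0 h1
    obtain ⟨r, hr, hm⟩ := S.exists_min_image (fun r => φ (C.vec r)) S.toFinite hne
    have hk : ∃ k, (w ^ (k + 1)) r = r := ⟨orderOf w - 1, by
      rw [Nat.sub_add_cancel (orderOf_pos w), pow_orderOf_eq_one]; rfl⟩
    obtain ⟨k, hk, hk'⟩ : ∃ k, (w ^ (k + 1)) r = r ∧ ∀ i < k, (w ^ (i + 1)) r ≠ r :=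
      ⟨_, Nat.find_spec hk, fun i => Nat.find_min hk⟩
    have h2 : ∀ i, (w ^ i) r ∈ S ∧ φ (C.vec ((w ^ i) r)) = φ (C.vec r) := fun i => by
      induction i with
      | zero => exact ⟨hr, rfl⟩
      | succ i ih => rw [pow_succ', Equiv.Perm.mul_apply, hφ]; exact ⟨h1 _ ih.1, ih.2⟩
    have h3 : ∀ i, ∃ δ : Kˣ, ∀ t, σ^[i] (ρ.x r t) = ρ.x ((w ^ i) r) (δ * t ^ p ^ (M * i)) :=
      fun i => by
      induction i with
      | zero => exact ⟨1, by simp⟩
      | succ i ih =>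
        obtain ⟨δ, ih⟩ := ih
        refine ⟨γ ((w ^ i) r) * δ ^ p ^ M, fun t => ?_⟩
        rw [Function.iterate_succ_apply', ih, e, pow_succ', mul_pow, ← pow_mul, ← pow_add,
          ← mul_assoc, Nat.mul_succ]
        simp
    obtain ⟨δ, hδ⟩ := h3 (k + 1)
    obtain ⟨O, hO⟩ : ∃ O, O = Set.range fun i : Fin (k + 1) => (w ^ i.1) r := ⟨_, rfl⟩
    have h4 : C.Closed (S \ O) := closed_diff hS (h0 r hr) hm (by
      rw [hO]; rintro _ ⟨i, rfl⟩; exact (h2 i).2)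
    have h5 : ∀ s ∈ S \ O, w s ∈ S \ O := fun s hs => ⟨h1 s hs.1, fun h => hs.2 (by
      rw [hO] at h ⊢
      obtain ⟨⟨_ | i, hi⟩, h⟩ := h
      · exact ⟨Fin.last k, w.injective (by simpa [← h, pow_succ'] using hk)⟩
      · exact ⟨⟨i, by omega⟩, w.injective (by simpa [pow_succ'] using h)⟩)⟩
    have h6 : r ∈ O := hO ▸ ⟨0, rfl⟩
    have h7 : ∀ t : {t : K // δ * t ^ p ^ (M * (k + 1)) = t}, ∃ b ∈ ρ.U (S \ {r}),
        σ (ρ.x r t * b) = ρ.x r t * b := fun t => by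
      have h8 : σ^[k + 1] (ρ.x r t) = ρ.x r t := by rw [hδ, hk, t.2]
      have h9 : ρ.x r t ∈ h.Alg p := by
        obtain ⟨N, M', hM', e⟩ := hσ.2
        refine ⟨M' * (k + 1), by positivity, ?_⟩
        rw [h.fr_mul p, ← show σ^[N] = h.fr p M' from funext e, ← Function.iterate_mul, mul_comm,
          Function.iterate_mul, Function.iterate_fixed h8]
      have h10 : ∀ i, nrm σ (ρ.x r t) i ∈ h.Alg p := fun i => by
        induction i with
        | zero => exact one_mem _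
        | succ i ih => exact mul_mem h9 (hσ.map_Alg ih)
      have h11 : ∀ i ≤ k, σ (nrm σ (ρ.x r t) i) ∈ ρ.U (S \ {r}) := fun i hi => by
        induction i with
        | zero => simp [nrm]
        | succ i ih =>
          obtain ⟨δ, e⟩ := h3 (i + 1)
          rw [nrm_succ, map_mul, ← Function.iterate_succ_apply' σ, e]
          exact mul_mem (ih (by omega)) (ρ.x_mem_U (And.intro (h2 _).1 (hk' i hi)) _)
      have h12 : S = {s | s ∈ S ∧ φ (C.vec r) ≤ φ (C.vec s)} :=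
        Set.ext fun s => ⟨fun h => ⟨h, hm s h⟩, fun h => h.1⟩
      have h13 := ρ.commutator_level hS h0 (h12 ▸ mul_mem (ρ.x_mem_U hr t)
        (ρ.U_mono Set.sdiff_subset (h11 k le_rfl))) (h12 ▸ ρ.x_mem_U hr t)
      have h14 := nrm_succ (σ := σ) (ρ.x r t) (k + 1)
      rw [h8, nrm, ← eq_inv_mul_iff_mul_eq] at h14
      obtain ⟨z, hz, h15⟩ := langU hσ hK h4 (fun s hs => hp s hs.1) (fun g hg =>
        ρ.U_induction (p := fun g => σ g ∈ ρ.U (S \ O)) (by simp) (fun g s t _ hs hg => by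
          rw [map_mul, e]; exact mul_mem hg (ρ.x_mem_U (h5 s hs) _)) hg)
        (ρ.U_mono (fun s hs => And.intro hs.1 fun h => by
          rw [hO] at h
          obtain ⟨i, rfl⟩ := h
          have := hs.2
          have := h0 r hr
          have := (h2 i).2
          dsimp only at *; omega) h13) (mul_mem (mul_mem (mul_mem (inv_mem (h10 (k + 1)))
          (inv_mem h9)) (h10 (k + 1))) h9)
      refine ⟨σ (nrm σ (ρ.x r t) k) * z, mul_mem (h11 k le_rfl) (ρ.U_mono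
        (Set.sdiff_subset_sdiff_right (by simpa)) hz), ?_⟩
      rw [← mul_assoc, map_mul, ← nrm, h14, ← inv_mul_eq_iff_eq_mul, nrm]
      refine Eq.trans ?_ (mul_inv_eq_iff_eq_mul.1 h15.symm).symm
      simp only [mul_assoc]
    choose b hb hb' using h7
    have h8 := Nat.card_le_card_of_injective (β := {u // u ∈ ρ.U S ∧ σ u = u})
      (fun a : {t : K // δ * t ^ p ^ (M * (k + 1)) = t} × {u // u ∈ ρ.U (S \ O) ∧ σ u = u} =>
        ⟨ρ.x r a.1 * b a.1 * a.2, mul_mem (mul_mem (ρ.x_mem_U hr _) (ρ.U_mono Set.sdiff_subset (hb _)))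
          (ρ.U_mono Set.sdiff_subset a.2.2.1), by rw [map_mul, hb', a.2.2.2]⟩) fun a a' e => by
      have h9 : ∀ a : {u // u ∈ ρ.U (S \ O) ∧ σ u = u}, a.1 ∈ ρ.U (S \ {r}) := fun a =>
        ρ.U_mono (Set.sdiff_subset_sdiff_right (by simpa)) a.2.1
      have h10 : a.1 = a'.1 := by
        by_contra h10
        refine ((h.faith.x_mem_U_iff (closed_diff hS (h0 r hr) hm (T := {r}) (by simp))
          ⟨φ, fun s hs => h0 s hs.1⟩ (r := r) (t := -a'.1.1 + a.1.1) fun h => h10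
            (Subtype.ext (neg_add_eq_zero.1 h).symm)).1 ?_).2 rfl
        rw [ρ.x_add, ρ.x_neg, show (ρ.x r a'.1)⁻¹ * ρ.x r a.1 = b a'.1 * a'.2 * (b a.1 * a.2)⁻¹ by
          rw [inv_mul_eq_iff_eq_mul, ← mul_assoc, eq_mul_inv_iff_mul_eq]
          simpa [mul_assoc] using e]
        exact mul_mem (mul_mem (hb _) (h9 _)) (inv_mem (mul_mem (hb _) (h9 _)))
      refine Prod.ext h10 (Subtype.ext ?_)
      simpa [h10] using e
    have h9 : O.ncard ≤ k + 1 := by
      rw [hO, ← Set.image_univ]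
      exact (Set.ncard_image_le).trans (by simp [Set.ncard_univ])
    have h10 := Set.ncard_le_ncard_sdiff_add_ncard S O
    have h11 : (S \ O).ncard < S.ncard :=
      Set.ncard_lt_ncard ⟨Set.sdiff_subset, fun h => (h hr).2 h6⟩
    refine le_trans ?_ h8
    rw [Nat.card_prod, card_sol (by positivity), pow_mul]
    refine le_trans ?_ (Nat.mul_le_mul_left _ (ih (by omega) h4 (fun s hs => hp s hs.1)
      (fun s hs => h0 s hs.1) h5))
    rw [← pow_add]
    exact Nat.pow_le_pow_right (pow_pos (Fact.out : p.Prime).pos _) (by omega)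

theorem cntU (hσ : h.IsFrob p σ) (hK : Big K (Fintype.card ι + Fintype.card B)) {M : ℕ}
    (hM : 0 < M) {w : Equiv.Perm ι} (hw : w ∈ C.Aut) {γ : ι → Kˣ}
    (e : ∀ r t, σ (ρ.x r t) = ρ.x (w r) (γ r * t ^ p ^ M)) {S : Set ι} (hS : C.Closed S)
    (hp : ∀ r ∈ S, C.Pos r) (h1 : ∀ r ∈ S, w r ∈ S) :
    (p ^ M) ^ S.ncard ≤ Nat.card {u // u ∈ ρ.U S ∧ σ u = u} := by
  obtain ⟨v, hv⟩ := exists_rho (C := C)
  have h2 : ∀ r, pr C (∑ k ∈ range (orderOf w), (Mw C (w ^ k)⁻¹).mulVec v) (C.vec r) =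
      ∑ k ∈ range (orderOf w), pr C v (C.vec ((w ^ k) r)) := fun r => by
    simp only [pr_sum, pr_Mw' (inv_mem (pow_mem hw _)), inv_inv]
  refine cntU_aux hσ hK hM e (φ := pr C (∑ k ∈ range (orderOf w), (Mw C (w ^ k)⁻¹).mulVec v))
    (fun r => ?_) _ le_rfl hS hp (fun r hr => ?_) h1
  · have := (sum_range_succ (fun k => pr C v (C.vec ((w ^ k) r))) (orderOf w)).symm.trans
      (sum_range_succ' _ _)
    rw [pow_orderOf_eq_one, pow_zero] at this
    rw [h2, h2, add_right_cancel this]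
    rfl
  · rw [h2]
    refine sum_pos (fun k hk => hv _ (hp _ ?_)) ⟨0, mem_range.2 (orderOf_pos w)⟩
    clear hk
    induction k with
    | zero => exact hr
    | succ i ih => rw [pow_succ']; exact h1 _ ih

end CF.Ev
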